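import Cfsg.Agent.Lib.Fusion.Transfer.Cocycle
import Cfsg.Agent.Lib.Fusion.Saturation
import Cfsg.Agent.Lib.Fusion.Stable.Park
import Mathlib.GroupTheory.PGroup
import Mathlib.GroupTheory.GroupAction.Quotient
import Mathlib.Data.Int.ModEq

/-!
A saturated fusion system has a left stable biset of degree prime to `p`.
-/

set_option autoImplicit false
set_option linter.unusedSectionVars false

universe u v w

namespace CfsgLib.Marks

/-- Two actions of a group with equal fixed point numbers above a normal subgroup agree on it modulo its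
index. -/
theorem mark_modEq {N : Type u} [Group N] [Finite N] (D : Subgroup N) [D.Normal] {X : Type v} {Y : Type w}
    [MulAction N X] [MulAction N Y] [Finite X] [Finite Y] (h : ∀ E : Subgroup N, D < E → mark X E = mark Y E) :
    ((D.index : ℤ)) ∣ (mark X D : ℤ) - mark Y D := by
  classical
  haveI := Fintype.ofFinite N
  have key : ∀ (Z : Type (max v w)) [MulAction N Z] [Finite Z],
      ((Nat.card N : ℤ)) ∣ (∑ g : N, (mark Z (D ⊔ Subgroup.zpowers g) : ℤ)) := by
    intro Z _ _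
    let Z₀ : SubMulAction N Z :=
      { carrier := {z | ∀ d ∈ D, d • z = z}
        smul_mem' := fun g z hz d hd => by
          have h1 := hz (g⁻¹ * d * g) (by
            simpa using (inferInstance : D.Normal).conj_mem d hd g⁻¹)
          rw [mul_smul, mul_smul, inv_smul_eq_iff] at h1
          exact h1 }
    haveI := Fintype.ofFinite Z₀
    have h1 : ∀ g : N, mark Z (D ⊔ Subgroup.zpowers g) = Fintype.card (MulAction.fixedBy Z₀ g) := by
      intro g
      rw [← Nat.card_eq_fintype_card]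
      exact Nat.card_congr
        { toFun := fun z => ⟨⟨z.1, fun d hd => z.2 d (Subgroup.mem_sup_left hd)⟩,
            Subtype.ext (z.2 g (Subgroup.mem_sup_right (Subgroup.mem_zpowers g)))⟩
          invFun := fun z => ⟨z.1.1, fun d hd => by
            have hle : D ⊔ Subgroup.zpowers g ≤ MulAction.stabilizer N (z.1 : Z) :=
              sup_le (fun d hd => z.1.2 d hd) (Subgroup.zpowers_le.mpr (congrArg Subtype.val z.2))
            exact hle hd⟩
          left_inv := fun z => rfl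
          right_inv := fun z => rfl }
    simp only [h1]
    rw [← Nat.cast_sum, MulAction.sum_card_fixedBy_eq_card_orbits_mul_card_group, ← Nat.card_eq_fintype_card (α := N)]
    exact ⟨_, by push_cast; exact mul_comm _ _⟩
  have hX := key (ULift.{max v w} X)
  have hY := key (ULift.{max v w} Y)
  have hu : ∀ (Z : Type v) [MulAction N Z] (E : Subgroup N), mark (ULift.{max v w} Z) E = mark Z E :=
    fun Z _ E => mark_congr Equiv.ulift (fun _ _ => rfl) E
  have hu' : ∀ (Z : Type w) [MulAction N Z] (E : Subgroup N), mark (ULift.{max v w} Z) E = mark Z E :=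
    fun Z _ E => mark_congr Equiv.ulift (fun _ _ => rfl) E
  simp only [hu] at hX
  simp only [hu'] at hY
  have hd := dvd_sub hX hY
  rw [← Finset.sum_sub_distrib] at hd
  have h2 : ∀ g : N, (mark X (D ⊔ Subgroup.zpowers g) : ℤ) - mark Y (D ⊔ Subgroup.zpowers g) =
      if g ∈ D then (mark X D : ℤ) - mark Y D else 0 := by
    intro g
    split_ifs with hg
    · rw [sup_eq_left.mpr (Subgroup.zpowers_le.mpr hg)]
    · rw [h _ (lt_of_le_of_ne le_sup_left fun e => hg (e ▸ Subgroup.mem_sup_right (Subgroup.mem_zpowers g))), sub_self]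
  rw [Finset.sum_congr rfl fun g _ => h2 g, ← Finset.sum_filter, Finset.sum_const] at hd
  have hc : (Finset.univ.filter fun g : N => g ∈ D).card = Nat.card D := by
    rw [Nat.card_eq_fintype_card, Fintype.card_subtype]
  rw [hc, ← D.card_mul_index, nsmul_eq_mul, Nat.cast_mul] at hd
  exact Int.dvd_of_mul_dvd_mul_left (by exact_mod_cast Nat.card_pos.ne') hd

end CfsgLib.Marks

namespace Cfsg.FusionSystem

open CfsgLib.Marks

variable {Ω : Type u} [Group Ω] {S : Subgroup Ω} {F : FusionSystem S} {p : ℕ} [Finite S]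

/-- The diagonal of a homomorphism on a subgroup of `S`. -/
def graphDiag (S : Subgroup Ω) {P : Subgroup Ω} (hP : P ≤ S) (φ : P →* Ω) (hφ : ∀ u, φ u ∈ S) : Subgroup (S × S) :=
  (((φ.codRestrict S hφ)).prod (Subgroup.inclusion hP)).range

theorem mem_graphDiag {P : Subgroup Ω} {hP : P ≤ S} {φ : P →* Ω} {hφ : ∀ u, φ u ∈ S} {z : S × S} :
    z ∈ graphDiag S hP φ hφ ↔ ∃ u : P, (z.1 : Ω) = φ u ∧ (z.2 : Ω) = u := by
  constructor
  · rintro ⟨u, rfl⟩
    exact ⟨u, rfl, rfl⟩
  · rintro ⟨u, h1, h2⟩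
    exact ⟨u, Prod.ext (Subtype.ext h1.symm) (Subtype.ext h2.symm)⟩

theorem diag_graphDiag {P : Subgroup Ω} {φ : P →* Ω} (hφ : φ ∈ F.Hom P) :
    F.Diag (graphDiag S (F.source_le hφ) φ (F.apply_mem hφ)) :=
  ⟨P, φ, hφ, fun _ => mem_graphDiag⟩

theorem card_graphDiag {P : Subgroup Ω} {hP : P ≤ S} {φ : P →* Ω} {hφ : ∀ u, φ u ∈ S} :
    Nat.card (graphDiag S hP φ hφ) = Nat.card P :=
  (Nat.card_congr (MonoidHom.ofInjective fun a b e =>
    Subgroup.inclusion_injective hP (congrArg Prod.snd e)).toEquiv).symm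

theorem Diag.exists_eq {D : Subgroup (S × S)} (h : F.Diag D) :
    ∃ (P : Subgroup Ω) (φ : P →* Ω) (hφ : φ ∈ F.Hom P),
      D = graphDiag S (F.source_le hφ) φ (F.apply_mem hφ) := by
  obtain ⟨P, φ, hφ, hD⟩ := h
  exact ⟨P, φ, hφ, Subgroup.ext fun z => (hD z).trans mem_graphDiag.symm⟩

/-- A map out of the normaliser of a diagonal onto one of maximal normaliser in its class. -/
theorem exists_normalizer_twist {R : Subgroup Ω} {ψ β : R →* Ω} (hψ : ψ ∈ F.Hom R) (hβ : β ∈ F.Hom R)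
    (hrec : F.IsReceptive β.range) (hext : normalizerIn S R ≤ extender S R β) :
    ∃ γ : ↥(Subgroup.normalizer ((graphDiag S (F.source_le hψ) ψ (F.apply_mem hψ) : Subgroup (S × S)) : Set (S × S)))
        →* S × S, Function.Injective γ ∧
      (Subgroup.subgroupOf (graphDiag S (F.source_le hψ) ψ (F.apply_mem hψ)) _).map γ =
        graphDiag S (F.source_le hβ) β (F.apply_mem hβ) ∧
      ∀ E : Subgroup ↥(Subgroup.normalizer ((graphDiag S (F.source_le hψ) ψ (F.apply_mem hψ) : Subgroup (S × S)) : Set (S × S))),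
        F.Twisted (E.map (Subgroup.subtype _)) (E.map γ) := by
  set D := graphDiag S (F.source_le hψ) ψ (F.apply_mem hψ) with hD
  set N := Subgroup.normalizer (D : Set (S × S)) with hN
  obtain ⟨ψ', hψ', hψ'r, hψ'l, -⟩ := F.exists_inv hψ rfl
  have hψ'R : ∀ y, ψ' y ∈ R := fun y => hψ'r.le ⟨y, rfl⟩
  let α : ψ.range →* Ω := β.comp (ψ'.codRestrict R hψ'R)
  have hα : α ∈ F.Hom ψ.range := F.comp_mem hψ' hβ hψ'R
  have hαψ : ∀ u : R, α ⟨ψ u, u, rfl⟩ = β u := fun u => congrArg β (Subtype.ext (hψ'l u _))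
  have hαr : α.range = β.range := by
    apply le_antisymm
    · rintro _ ⟨y, rfl⟩
      exact ⟨_, rfl⟩
    · rintro _ ⟨u, rfl⟩
      exact ⟨_, hαψ u⟩
  have hαS := F.apply_mem hα
  have hin : ∀ u : R, ((⟨ψ u, F.apply_mem hψ u⟩, ⟨u, F.source_le hψ u.2⟩) : S × S) ∈ D := fun u =>
    mem_graphDiag.mpr ⟨u, rfl, rfl⟩
  have hconj : ∀ z : N, ∀ u : R, ∃ hu : ((z : S × S).2 : Ω) * u * ((z : S × S).2 : Ω)⁻¹ ∈ R,
      ψ ⟨_, hu⟩ = ((z : S × S).1 : Ω) * ψ u * ((z : S × S).1 : Ω)⁻¹ := by
    intro z u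
    obtain ⟨w, h1, h2⟩ := mem_graphDiag.mp ((Subgroup.mem_normalizer_iff.mp z.2 _).mp (hin u))
    have h2' : ((z : S × S).2 : Ω) * u * ((z : S × S).2 : Ω)⁻¹ = w := h2
    refine ⟨h2' ▸ w.2, ?_⟩
    refine Eq.trans (congrArg ψ (Subtype.ext h2')) ?_
    exact h1.symm
  have hK : ∀ z : N, ((z : S × S).1 : Ω) ∈ extender S ψ.range α := by
    intro z
    refine (mem_extender_iff hαS).mpr ⟨(z : S × S).1.2, ?_, ?_⟩
    · refine Subgroup.mem_normalizer_iff.mpr fun y => ⟨?_, ?_⟩
      · rintro ⟨u, rfl⟩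
        obtain ⟨hu, e⟩ := hconj z u
        exact ⟨_, e⟩
      · rintro ⟨u, e⟩
        obtain ⟨hu, e'⟩ := hconj z⁻¹ u
        refine ⟨_, e'.trans ?_⟩
        rw [e]
        show ((z : S × S).1 : Ω)⁻¹ * _ * ((z : S × S).1 : Ω)⁻¹⁻¹ = _
        group
    · have hzn : ((z : S × S).2 : Ω) ∈ normalizerIn S R := by
        refine ⟨(z : S × S).2.2, Subgroup.mem_normalizer_iff.mpr fun y => ⟨fun hy => (hconj z ⟨y, hy⟩).1, fun hy => ?_⟩⟩
        obtain ⟨hu, -⟩ := hconj z⁻¹ ⟨_, hy⟩
        simpa [mul_assoc] using hu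
      obtain ⟨-, -, h, hh, he⟩ := (mem_extender_iff (F.apply_mem hβ)).mp (hext hzn)
      refine ⟨h, hh, fun y hy => ?_⟩
      obtain ⟨_, u, rfl⟩ := y
      obtain ⟨hu, e⟩ := hconj z u
      rw [show (⟨((z : S × S).1 : Ω) * ψ u * ((z : S × S).1 : Ω)⁻¹, hy⟩ : ψ.range) = ⟨ψ ⟨_, hu⟩, _, rfl⟩ from
        Subtype.ext e.symm, hαψ, hαψ]
      exact he u hu
  obtain ⟨χ, hχ, hχe⟩ := hrec.2 ψ.range α hα hαr
  let γ : N →* S × S :=
    ((χ.codRestrict S (F.apply_mem hχ)).comp (((S.subtype.comp ((MonoidHom.fst S S).comp N.subtype))).codRestrict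
      (extender S ψ.range α) hK)).prod ((MonoidHom.snd S S).comp N.subtype)
  have hγ1 : ∀ z : N, ((γ z).1 : Ω) = χ ⟨_, hK z⟩ := fun z => rfl
  have hinj : Function.Injective γ := by
    intro a b e
    have e1 : χ ⟨_, hK a⟩ = χ ⟨_, hK b⟩ := congrArg (fun w : S × S => (w.1 : Ω)) e
    have e2 : (γ a).2 = (γ b).2 := by rw [e]
    have e3 : ((a : S × S).1 : Ω) = ((b : S × S).1 : Ω) :=
      congrArg (fun w : extender S ψ.range α => (w : Ω)) (F.injective_of_mem hχ e1)
    exact Subtype.ext (Prod.ext (Subtype.ext e3) e2)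
  have hγD : ∀ (u : R) (h : ((⟨ψ u, F.apply_mem hψ u⟩, ⟨u, F.source_le hψ u.2⟩) : S × S) ∈ N),
      ((γ ⟨_, h⟩).1 : Ω) = β u := by
    intro u h
    rw [hγ1, hχe _ ⟨u, rfl⟩]
    exact hαψ u
  refine ⟨γ, hinj, ?_, fun E => ⟨extender S ψ.range α, χ, hχ, 1, ?_, fun z' => ⟨?_, ?_⟩⟩⟩
  · ext z'
    rw [mem_graphDiag]
    constructor
    · rintro ⟨z, hz, rfl⟩
      obtain ⟨u, h1, h2⟩ := mem_graphDiag.mp hz
      refine ⟨u, ?_, h2⟩
      have e : (z : S × S) = (⟨ψ u, F.apply_mem hψ u⟩, ⟨u, F.source_le hψ u.2⟩) :=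
        Prod.ext (Subtype.ext h1) (Subtype.ext h2)
      rw [show z = ⟨_, e ▸ z.2⟩ from Subtype.ext e]
      exact hγD u _
    · rintro ⟨u, h1, h2⟩
      exact ⟨⟨_, Subgroup.le_normalizer (hin u)⟩, hin u, Prod.ext (Subtype.ext ((hγD u _).trans h1.symm)) (Subtype.ext h2.symm)⟩
  · rintro _ ⟨z, -, rfl⟩
    exact hK z
  · rintro ⟨z, hz, rfl⟩
    exact ⟨_, ⟨z, hz, rfl⟩, rfl, by simp [γ]⟩
  · rintro ⟨_, ⟨z, hz, rfl⟩, h1, h2⟩
    refine ⟨z, hz, Prod.ext (Subtype.ext h1.symm) ?_⟩
    rw [h2]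
    simp [γ]

variable [Fact p.Prime]

/-- A conjugate to a fully normalised subgroup absorbing the whole normaliser. -/
theorem IsSaturated.exists_absorb (hF : F.IsSaturated p) (hS : IsPGroup p S) {R : Subgroup Ω} (hR : R ≤ S) :
    ∃ β, β ∈ F.Hom R ∧ F.IsReceptive β.range ∧ normalizerIn S R ≤ extender S R β := by
  obtain ⟨Q, hc, hQ⟩ := exists_isFullyNormalized (F := F) hR
  obtain ⟨β, hβ, hβr, χ, hχ, -, hχe⟩ := hF.exists_map_to_fullyNormalized hS hQ hc
  refine ⟨β, hβ, hβr ▸ hF.isReceptive_of_isFullyNormalized hS hQ, fun g hg => ?_⟩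
  refine (mem_extender_iff (F.apply_mem hβ)).mpr ⟨hg.1, hg.2, χ ⟨g, hg⟩, F.apply_mem hχ _, fun x hx => ?_⟩
  have h1 := le_normalizerIn hR x.2
  have h2 := le_normalizerIn hR hx
  rw [← hχe x h1, ← hχe ⟨_, hx⟩ h2, ← map_inv, ← map_mul, ← map_mul]
  rfl

/-- The step of the construction below the top. -/
theorem IsSaturated.exists_target (hF : F.IsSaturated p) (hS : IsPGroup p S) {c : Subgroup (S × S) → ℕ}
    (hc : ∀ K, c K ≠ 0 → F.Diag K) {n : ℕ} (hst : StableFrom F.Twisted {D | F.Diag D} c (n + 1))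
    {D : Subgroup (S × S)} (hD : F.Diag D) (hn : Nat.card D = n) :
    ∃ T, ∀ D', F.Twisted D D' →
      mark (Orbits c) D' ≤ T ∧ mark ((S × S) ⧸ D') D' ∣ T - mark (Orbits c) D' := by
  classical
  haveI := Fintype.ofFinite (Subgroup (S × S))
  obtain ⟨R, φ, hφ, rfl⟩ := hD.exists_eq
  have hR := F.source_le hφ
  obtain ⟨β, hβ, hrec, hext⟩ := hF.exists_absorb hS hR
  set D₀ := graphDiag S (F.source_le hβ) β (F.apply_mem hβ) with hD₀
  set m₀ := mark (Orbits c) D₀
  set msum := ∑ E : Subgroup (S × S), mark (Orbits c) E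
  refine ⟨m₀ + Nat.card (S × S) * msum, fun D' hD' => ?_⟩
  have hle : mark (Orbits c) D' ≤ m₀ + Nat.card (S × S) * msum :=
    (Finset.single_le_sum (f := fun E => mark (Orbits c) E) (fun _ _ => Nat.zero_le _) (Finset.mem_univ D')).trans
      ((Nat.le_mul_of_pos_left msum Nat.card_pos).trans le_add_self)
  refine ⟨hle, ?_⟩
  obtain ⟨R', ψ, hψ, rfl⟩ := (Diag.twisted (diag_graphDiag hφ) hD').exists_eq
  -- the right coordinates are conjugate
  obtain ⟨P, a, ha, t, hP, hD''⟩ := hD'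
  have hR'1 : ∀ u : R', (t : Ω)⁻¹ * u * t ∈ R := by
    intro u
    obtain ⟨z, hz, -, h2⟩ := (hD'' (⟨ψ u, F.apply_mem hψ u⟩, ⟨u, F.source_le hψ u.2⟩)).mp
      (mem_graphDiag.mpr ⟨u, rfl, rfl⟩)
    obtain ⟨v, -, hv⟩ := mem_graphDiag.mp hz
    have h3 : (u : Ω) = t * (z.2 : Ω) * (t : Ω)⁻¹ := congrArg (fun w : S => (w : Ω)) h2
    rw [h3, hv]
    simpa [mul_assoc] using v.2
  have hR'2 : ∀ u : R, (t : Ω) * u * (t : Ω)⁻¹ ∈ R' := by
    intro u
    have hz : ((⟨φ u, F.apply_mem hφ u⟩, ⟨u, hR u.2⟩) : S × S) ∈ graphDiag S (F.source_le hφ) φ (F.apply_mem hφ) :=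
      mem_graphDiag.mpr ⟨u, rfl, rfl⟩
    obtain ⟨v, -, hv⟩ := mem_graphDiag.mp ((hD'' (⟨a ⟨_, hP _ hz⟩, F.apply_mem ha _⟩, t * ⟨u, hR u.2⟩ * t⁻¹)).mpr
      ⟨_, hz, rfl, rfl⟩)
    have hv' : (t : Ω) * u * (t : Ω)⁻¹ = v := hv
    exact hv' ▸ v.2
  let κ : R' →* R := (conjHom R' (t : Ω)⁻¹).codRestrict R fun u => by
    rw [conjHom_apply, inv_inv]; exact hR'1 u
  let β' : R' →* Ω := β.comp κ
  have hκ : ∀ u : R', ((κ u : R) : Ω) = (t : Ω)⁻¹ * u * t := fun u => by
    show (t : Ω)⁻¹ * u * (t : Ω)⁻¹⁻¹ = _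
    rw [inv_inv]
  have hβ' : β' ∈ F.Hom R' := F.comp_mem (F.conj_mem (F.source_le hψ) (S.inv_mem t.2)) hβ
    fun u => by rw [conjHom_apply, inv_inv]; exact hR'1 u
  have hκs : ∀ u : R, κ ⟨_, hR'2 u⟩ = u := fun u => Subtype.ext (by rw [hκ]; group)
  have hrange : β'.range = β.range := by
    apply le_antisymm
    · rintro _ ⟨u, rfl⟩
      exact ⟨κ u, rfl⟩
    · rintro _ ⟨u, rfl⟩
      exact ⟨⟨_, hR'2 u⟩, congrArg β (hκs u)⟩
  have hext' : normalizerIn S R' ≤ extender S R' β' := by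
    intro g hg
    have hg' : (t : Ω)⁻¹ * g * t ∈ normalizerIn S R := by
      refine ⟨S.mul_mem (S.mul_mem (S.inv_mem t.2) hg.1) t.2, Subgroup.mem_normalizer_iff.mpr fun x => ⟨fun hx => ?_, fun hx => ?_⟩⟩
      · have h1 := (Subgroup.mem_normalizer_iff.mp hg.2 _).mp (hR'2 ⟨x, hx⟩)
        have h2 := hR'1 ⟨_, h1⟩
        simpa [mul_assoc] using h2
      · have h1 := hR'2 ⟨_, hx⟩
        have h2 : g * ((t : Ω) * x * (t : Ω)⁻¹) * g⁻¹ ∈ R' := by simpa [mul_assoc] using h1
        have h3 := hR'1 ⟨_, (Subgroup.mem_normalizer_iff.mp hg.2 _).mpr h2⟩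
        simpa [mul_assoc] using h3
    obtain ⟨-, -, h, hh, he⟩ := (mem_extender_iff (F.apply_mem hβ)).mp (hext hg')
    refine (mem_extender_iff (F.apply_mem hβ')).mpr ⟨hg.1, hg.2, h, hh, fun x hx => ?_⟩
    have hx' : (t : Ω)⁻¹ * g * t * (κ x : Ω) * ((t : Ω)⁻¹ * g * t)⁻¹ ∈ R :=
      (Subgroup.mem_normalizer_iff.mp hg'.2 _).mp (κ x).2
    refine Eq.trans (congrArg β (Subtype.ext ?_ : κ ⟨_, hx⟩ = ⟨_, hx'⟩)) (he (κ x) hx')
    show ((κ ⟨_, hx⟩ : R) : Ω) = (t : Ω)⁻¹ * g * t * ((κ x : R) : Ω) * ((t : Ω)⁻¹ * g * t)⁻¹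
    rw [hκ, hκ]
    group
  set D₁ := graphDiag S (F.source_le hψ) ψ (F.apply_mem hψ) with hD₁
  set N := Subgroup.normalizer (D₁ : Set (S × S)) with hN
  obtain ⟨γ, hγinj, hγD, hγT⟩ : ∃ γ : N →* S × S, Function.Injective γ ∧
      (D₁.subgroupOf N).map γ = graphDiag S (F.source_le hβ') β' (F.apply_mem hβ') ∧
      ∀ E : Subgroup N, F.Twisted (E.map N.subtype) (E.map γ) :=
    exists_normalizer_twist hψ hβ' (hrange ▸ hrec) hext'
  haveI : (D₁.subgroupOf N).Normal := Subgroup.normal_in_normalizer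
  have hDeq : graphDiag S (F.source_le hβ') β' (F.apply_mem hβ') =
      D₀.map (MulAut.conj ((1, t) : S × S)).toMonoidHom := by
    ext z
    rw [mem_graphDiag]
    constructor
    · rintro ⟨u, h1, h2⟩
      refine ⟨(z.1, ⟨(κ u : R), hR (κ u).2⟩), mem_graphDiag.mpr ⟨κ u, h1, rfl⟩, Prod.ext ?_ (Subtype.ext ?_)⟩
      · simp
      · show (t : Ω) * ((κ u : R) : Ω) * (t : Ω)⁻¹ = _
        rw [hκ, h2]
        group
    · rintro ⟨w, hw, rfl⟩
      obtain ⟨u, h1, h2⟩ := mem_graphDiag.mp hw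
      refine ⟨⟨_, hR'2 u⟩, ?_, ?_⟩
      · show (((1 : S) * w.1 * (1 : S)⁻¹ : S) : Ω) = β (κ ⟨_, hR'2 u⟩)
        rw [hκs]
        simpa using h1
      · show (t : Ω) * (w.2 : Ω) * (t : Ω)⁻¹ = _
        rw [h2]
  have h1 := mark_modEq (D₁.subgroupOf N) (X := Pulled (Orbits c) N.subtype) (Y := Pulled (Orbits c) γ)
    fun E hE => by
      rw [mark_pulled, mark_pulled]
      by_cases hd : F.Diag (E.map N.subtype)
      · refine hst _ _ (hγT E) hd ?_
        rw [Subgroup.card_map_of_injective N.subtype_injective]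
        have h2 : Nat.card (D₁.subgroupOf N) < Nat.card E :=
          lt_of_le_of_ne (Subgroup.card_le_of_le hE.le) fun e => hE.ne (Subgroup.eq_of_le_of_card_ge hE.le e.ge)
        rw [Nat.card_congr (Subgroup.subgroupOfEquivOfLe Subgroup.le_normalizer).toEquiv, hD₁, card_graphDiag] at h2
        have h3 : Nat.card R' = n := by
          rw [← hn]
          refine Nat.card_congr
            { toFun := fun u => κ u, invFun := fun u => ⟨_, hR'2 u⟩
              left_inv := fun u => Subtype.ext (by show (t : Ω) * ((κ u : R) : Ω) * (t : Ω)⁻¹ = _; rw [hκ]; group)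
              right_inv := hκs } |>.trans ?_
          exact card_graphDiag.symm
        omega
      · have hd' : ¬ F.Diag (E.map γ) := fun h => hd (h.twisted (twisted_equivalence.symm (hγT E)))
        rw [of_not_not fun h => hd (diag_of_fix hc h), of_not_not fun h => hd' (diag_of_fix hc h)]
  rw [mark_pulled, mark_pulled, hγD, Subgroup.map_subgroupOf_eq_of_le Subgroup.le_normalizer, hDeq, mark_conj] at h1
  rw [mark_self, Subgroup.relIndex]
  have h2 : (((D₁.subgroupOf N).index : ℕ) : ℤ) ∣ ((Nat.card (S × S) : ℕ) : ℤ) := by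
    refine Int.natCast_dvd_natCast.mpr ((Subgroup.index_dvd_card _).trans (Subgroup.card_subgroup_dvd_card _))
  rw [← Int.natCast_dvd_natCast, Nat.cast_sub hle, Nat.cast_add, Nat.cast_mul]
  have h3 := dvd_add (dvd_neg.mpr h1) (h2.mul_right (msum : ℤ))
  have key : ∀ a b M s : ℤ, a + M * s - b = -(b - a) + M * s := fun a b M s => by ring
  rw [key]
  exact h3

theorem diag_card_eq_iff {D : Subgroup (S × S)} (hD : F.Diag D) (hc : Nat.card D = Nat.card S) :
    ∃ (ψ : S →* Ω) (hψ : ψ ∈ F.Hom S), D = graphDiag S (F.source_le hψ) ψ (F.apply_mem hψ) := by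
  obtain ⟨P, φ, hφ, rfl⟩ := hD.exists_eq
  rw [card_graphDiag] at hc
  obtain rfl : P = S := Subgroup.eq_of_le_of_card_ge (F.source_le hφ) hc.ge
  exact ⟨φ, hφ, rfl⟩

/-- The number of points of a top orbit fixed by its diagonal. -/
theorem mark_self_top {ψ : S →* Ω} (hψ : ψ ∈ F.Hom S) :
    mark ((S × S) ⧸ graphDiag S (F.source_le hψ) ψ (F.apply_mem hψ))
      (graphDiag S (F.source_le hψ) ψ (F.apply_mem hψ)) = Nat.card (Subgroup.center S) := by
  set D := graphDiag S (F.source_le hψ) ψ (F.apply_mem hψ) with hD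
  set N := Subgroup.normalizer (D : Set (S × S)) with hN
  let ψS : S →* S := ψ.codRestrict S (F.apply_mem hψ)
  have hinj : Function.Injective ψS := fun a b e =>
    F.injective_of_mem hψ (congrArg (fun w : S => (w : Ω)) e)
  have hsurj : Function.Surjective ψS := Finite.surjective_of_injective hinj
  have hmem : ∀ z : S × S, z ∈ D ↔ z.1 = ψS z.2 := by
    intro z
    rw [mem_graphDiag]
    constructor
    · rintro ⟨u, h1, h2⟩
      refine Subtype.ext (h1.trans ?_)
      exact congrArg ψ (Subtype.ext h2.symm)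
    · exact fun h => ⟨z.2, congrArg Subtype.val h, rfl⟩
  have hcen : ∀ z : N, (ψS (z : S × S).2)⁻¹ * (z : S × S).1 ∈ Subgroup.center S := by
    rintro ⟨⟨a, b⟩, hz⟩
    refine Subgroup.mem_center_iff.mpr fun x => ?_
    obtain ⟨u, rfl⟩ := hsurj x
    have h1 := (hmem _).mp ((Subgroup.mem_normalizer_iff.mp hz (ψS u, u)).mp ((hmem _).mpr rfl))
    have h2 : a * ψS u * a⁻¹ = ψS b * ψS u * (ψS b)⁻¹ := by
      rw [← map_inv, ← map_mul, ← map_mul]
      exact h1
    calc ψS u * ((ψS b)⁻¹ * a) = (ψS b)⁻¹ * (ψS b * ψS u * (ψS b)⁻¹) * a := by group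
      _ = (ψS b)⁻¹ * a * ψS u := by rw [← h2]; group
  let e : N ≃ S × Subgroup.center S :=
    { toFun := fun z => ((z : S × S).2, ⟨_, hcen z⟩)
      invFun := fun w => ⟨(ψS w.1 * (w.2 : S), w.1), by
        refine Subgroup.mem_normalizer_iff.mpr fun x => ?_
        rw [hmem, hmem]
        show x.1 = ψS x.2 ↔ ψS w.1 * (w.2 : S) * x.1 * (ψS w.1 * (w.2 : S))⁻¹ = ψS (w.1 * x.2 * w.1⁻¹)
        rw [map_mul, map_mul, map_inv, mul_assoc (ψS w.1) (w.2 : S),
          ← Subgroup.mem_center_iff.mp w.2.2 x.1]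
        group
        constructor
        · intro h; rw [h]
        · intro h
          exact mul_left_cancel (mul_right_cancel h)⟩
      left_inv := fun z => by
        refine Subtype.ext (Prod.ext ?_ rfl)
        exact mul_inv_cancel_left _ _
      right_inv := fun w => Prod.ext rfl (Subtype.ext (inv_mul_cancel_left _ _)) }
  rw [mark_self]
  have h1 : Nat.card D * D.relIndex N = Nat.card N := by
    rw [Subgroup.relIndex, ← Nat.card_congr (Subgroup.subgroupOfEquivOfLe (Subgroup.le_normalizer : D ≤ N)).toEquiv]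
    exact Subgroup.card_mul_index _
  rw [Nat.card_congr e, Nat.card_prod, hD, card_graphDiag] at h1
  exact Nat.eq_of_mul_eq_mul_left Nat.card_pos h1

theorem mark_orbits_congr {c c' : Subgroup (S × S) → ℕ} {n : ℕ}
    (h : ∀ K : Subgroup (S × S), Nat.card K ≠ n → c' K = c K) {E : Subgroup (S × S)} (hE : n < Nat.card E) :
    mark (Orbits c') E = mark (Orbits c) E := by
  rw [mark_orbits, mark_orbits]
  refine finsum_congr fun K => ?_
  by_cases hK : Nat.card K = n
  · have : mark ((S × S) ⧸ K) E = 0 := by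
      by_contra hne
      have := card_le_of_mark_ne_zero hne
      omega
    rw [this, mul_zero, mul_zero]
  · rw [h K hK]

/-- The top layer: one orbit for each outer automorphism of `S`. -/
theorem exists_top (F : FusionSystem S) : ∃ c : Subgroup (S × S) → ℕ, (∀ K, c K ≠ 0 → F.Diag K) ∧
    StableFrom F.Twisted {D | F.Diag D} c (Nat.card S) ∧
    ∀ (ψ : S →* Ω) (hψ : ψ ∈ F.Hom S),
      mark (Orbits c) (graphDiag S (F.source_le hψ) ψ (F.apply_mem hψ)) = Nat.card (Subgroup.center S) := by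
  classical
  let sC : Setoid (Subgroup (S × S)) := ⟨fun D D' => ∃ g, D.map (MulAut.conj g).toMonoidHom = D', ⟨fun D => ⟨1, by
      ext x; simp⟩, fun {D D'} ⟨g, hg⟩ => ⟨g⁻¹, by
      rw [← hg, Subgroup.map_map]
      ext x; simp [mul_assoc]⟩, fun {D D' D''} ⟨g, hg⟩ ⟨h, hh⟩ => ⟨h * g, by
      rw [← hh, ← hg, Subgroup.map_map]
      congr 1
      ext x <;> simp [mul_assoc]⟩⟩⟩
  let rC : Subgroup (S × S) → Subgroup (S × S) := fun D => (Quotient.mk sC D).out
  let c : Subgroup (S × S) → ℕ := fun K => if F.Diag K ∧ Nat.card K = Nat.card S ∧ rC K = K then 1 else 0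
  have hval : ∀ (ψ : S →* Ω) (hψ : ψ ∈ F.Hom S),
      mark (Orbits c) (graphDiag S (F.source_le hψ) ψ (F.apply_mem hψ)) = Nat.card (Subgroup.center S) := by
    intro ψ hψ
    set D := graphDiag S (F.source_le hψ) ψ (F.apply_mem hψ) with hD
    obtain ⟨g, hg⟩ : ∃ g, (rC D).map (MulAut.conj g).toMonoidHom = D :=
      Quotient.exact (Quotient.out_eq (Quotient.mk sC D))
    have hDd : F.Diag D := diag_graphDiag hψ
    have hDc : Nat.card D = Nat.card S := card_graphDiag
    obtain ⟨g', hg'⟩ : ∃ g', D.map (MulAut.conj g').toMonoidHom = rC D :=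
      Quotient.exact (Quotient.out_eq (Quotient.mk sC D)).symm
    have hrd : F.Diag (rC D) := hg' ▸ hDd.conj g'
    have hrc : Nat.card (rC D) = Nat.card S := by
      rw [← hDc]
      conv_rhs => rw [← hg]
      exact (Subgroup.card_map_of_injective (MulAut.conj g).injective).symm
    have hrr : rC (rC D) = rC D := by
      show (Quotient.mk sC (rC D)).out = _
      rw [show Quotient.mk sC (rC D) = Quotient.mk sC D from Quotient.out_eq _]
    have hc1 : c (rC D) = 1 := by simp only [c]; rw [if_pos ⟨hrd, hrc, hrr⟩]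
    rw [mark_orbits, finsum_eq_single _ (rC D)]
    · rw [hc1, one_mul]
      obtain ⟨ψ', hψ', hr⟩ := diag_card_eq_iff hrd hrc
      conv_lhs => arg 2; rw [← hg]
      rw [mark_conj, hr, mark_self_top hψ']
    · intro K hK
      by_contra hne
      simp only [mul_eq_zero, not_or] at hne
      obtain ⟨-, hKn, hKr⟩ := (ite_ne_right_iff.mp hne.1).1
      obtain ⟨a, ha⟩ := eq_conj_of_mark_ne_zero hne.2 (hKn.trans hDc.symm).le
      refine hK ?_
      rw [← hKr]
      show (Quotient.mk sC K).out = (Quotient.mk sC D).out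
      rw [Quotient.sound (s := sC) (a := D) (b := K) ⟨a, ha⟩]
  refine ⟨c, fun K hK => (ite_ne_right_iff.mp hK).1.1, fun D D' hR hD hn => ?_, hval⟩
  have hD' : F.Diag D' := hD.twisted hR
  have hle : Nat.card D ≤ Nat.card S := by
    obtain ⟨P, φ, hφ, rfl⟩ := Diag.exists_eq hD
    rw [card_graphDiag]
    exact Subgroup.card_le_of_le (F.source_le hφ)
  obtain ⟨ψ, hψ, rfl⟩ := diag_card_eq_iff hD (le_antisymm hle hn)
  obtain ⟨ψ', hψ', rfl⟩ := diag_card_eq_iff hD' (by rw [← hR.card_eq, card_graphDiag])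
  rw [hval ψ hψ, hval ψ' hψ']

/-- A left stable orbit sum with prescribed top marks. -/
theorem IsSaturated.exists_stable (hF : F.IsSaturated p) (hS : IsPGroup p S) :
    ∃ c : Subgroup (S × S) → ℕ, (∀ K, c K ≠ 0 → F.Diag K) ∧ StableFrom F.Twisted {D | F.Diag D} c 0 ∧
    ∀ (ψ : S →* Ω) (hψ : ψ ∈ F.Hom S),
      mark (Orbits c) (graphDiag S (F.source_le hψ) ψ (F.apply_mem hψ)) = Nat.card (Subgroup.center S) := by
  suffices h : ∀ j, ∃ c : Subgroup (S × S) → ℕ, (∀ K, c K ≠ 0 → F.Diag K) ∧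
      StableFrom F.Twisted {D | F.Diag D} c (Nat.card S - j) ∧
      ∀ (ψ : S →* Ω) (hψ : ψ ∈ F.Hom S),
        mark (Orbits c) (graphDiag S (F.source_le hψ) ψ (F.apply_mem hψ)) = Nat.card (Subgroup.center S) by
    obtain ⟨c, h1, h2, h3⟩ := h (Nat.card S)
    rw [Nat.sub_self] at h2
    exact ⟨c, h1, h2, h3⟩
  intro j
  induction j with
  | zero => simpa using exists_top F
  | succ j ih =>
    obtain ⟨c, h1, h2, h3⟩ := ih
    rcases Nat.eq_zero_or_pos (Nat.card S - j) with h0 | hpos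
    · exact ⟨c, h1, by rwa [show Nat.card S - (j + 1) = Nat.card S - j by omega], h3⟩
    set n := Nat.card S - (j + 1) with hn
    rw [show Nat.card S - j = n + 1 by omega] at h2
    obtain ⟨c', -, heq, hst'⟩ := exists_step F.Twisted {D | F.Diag D} twisted_equivalence
      (fun _ _ h => h.card_eq) (fun D g _ => twisted_conj g) (fun _ _ h hD => Diag.twisted hD h) c n h2
      (fun D hD hcard => hF.exists_target hS h1 h2 hD hcard)
    refine ⟨c', fun K hK => ?_, hst', fun ψ hψ => ?_⟩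
    · by_contra hKd
      rw [heq K (Or.inl hKd)] at hK
      exact hKd (h1 K hK)
    · rw [mark_orbits_congr (fun K hK => heq K (Or.inr hK)) (by rw [card_graphDiag]; omega)]
      exact h3 ψ hψ

/-- **A left stable biset of degree prime to `p`.** -/
theorem IsSaturated.exists_cocycle (hF : F.IsSaturated p) (hS : IsPGroup p S) :
    ∃ C : F.Cocycle, (Fintype.card C.Y).Coprime p := by
  classical
  obtain ⟨c, hc, hst, htop⟩ := hF.exists_stable hS
  let act : MulAction S (Orbits c) := MulAction.compHom _ (MonoidHom.inr S S)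
  let Y := Quotient (@MulAction.orbitRel S (Orbits c) _ act)
  let mk : Orbits c → Y := Quotient.mk _
  have hmk : ∀ (t : S) (x : Orbits c), mk (((1, t) : S × S) • x) = mk x := fun t x => Quotient.sound ⟨t, rfl⟩
  have hmk' : ∀ {x x' : Orbits c}, mk x = mk x' → ∃ t : S, ((1, t) : S × S) • x' = x := fun h => Quotient.exact h
  have hfree : ∀ (t : S) (x : Orbits c), ((1, t) : S × S) • x = x → t = 1 := by
    intro t x hx
    have hm : mark (Orbits c) (Subgroup.zpowers ((1, t) : S × S)) ≠ 0 :=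
      Nat.card_pos_iff.mpr ⟨⟨⟨x, fun d hd => MulAction.mem_stabilizer_iff.mp
        ((Subgroup.zpowers_le.mpr (MulAction.mem_stabilizer_iff.mpr hx)) hd)⟩⟩, inferInstance⟩ |>.ne'
    obtain ⟨P, φ, hφ, hD⟩ := diag_of_fix hc hm
    obtain ⟨u, h1, h2⟩ := (hD _).mp (Subgroup.mem_zpowers _)
    have : u = 1 := F.injective_of_mem hφ (by rw [map_one]; exact h1.symm)
    exact Subtype.ext (h2.trans (by rw [this]; rfl))
  have hcomm : ∀ (g t : S) (x : Orbits c),
      ((g, 1) : S × S) • ((1, t) : S × S) • x = ((1, t) : S × S) • ((g, 1) : S × S) • x := fun g t x => by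
    simp only [← mul_smul, Prod.mk_mul_mk, one_mul, mul_one]
  let actY : MulAction S Y :=
    { smul := fun g => Quotient.map (fun x => ((g, 1) : S × S) • x) (by
        rintro x x' ⟨t, rfl⟩
        exact ⟨t, (hcomm g t x').symm⟩)
      one_smul := fun y => Quotient.inductionOn y fun x => congrArg mk (one_smul (S × S) x)
      mul_smul := fun g g' y => Quotient.inductionOn y fun x => congrArg mk (by
        show ((g * g', 1) : S × S) • x = ((g, 1) : S × S) • ((g', 1) : S × S) • x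
        rw [← mul_smul]; simp) }
  haveI : Finite Y := Quotient.finite _
  haveI := Fintype.ofFinite Y
  let sec : Y → Orbits c := Quotient.out
  have hsec : ∀ y, mk (sec y) = y := Quotient.out_eq
  have hη : ∀ (g : S) (y : Y), ∃ t : S, ((g, t) : S × S) • sec y = sec (g • y) := by
    intro g y
    have h : mk (sec (g • y)) = mk (((g, 1) : S × S) • sec y) := by
      rw [hsec]
      conv_lhs => rw [← hsec y]
      rfl
    obtain ⟨t, ht⟩ := hmk' h
    exact ⟨t, by rw [← ht, ← mul_smul]; simp⟩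
  choose η hη using hη
  have huniq : ∀ (g t t' : S) (x : Orbits c), ((g, t) : S × S) • x = ((g, t') : S × S) • x → t = t' := by
    intro g t t' x h
    rw [← inv_smul_eq_iff, ← mul_smul] at h
    have := hfree (t'⁻¹ * t) x (by simpa using h)
    exact (inv_mul_eq_one.mp this).symm
  have hfixD : ∀ (g : S) (y : Y), g • y = y → ((g, η g y) : S × S) ∈ MulAction.stabilizer (S × S) (sec y) :=
    fun g y hy => MulAction.mem_stabilizer_iff.mpr (by rw [hη, hy])
  have hstab : ∀ y : Y, F.Diag (MulAction.stabilizer (S × S) (sec y)) := fun y => diag_of_fix hc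
    (Nat.card_pos_iff.mpr ⟨⟨⟨sec y, fun d hd => MulAction.mem_stabilizer_iff.mp hd⟩⟩, inferInstance⟩).ne'
  let C : F.Cocycle :=
    { Y := Y
      fintype := inferInstance
      act := actY
      η := η
      η_mul := fun g g' y => huniq (g * g') _ _ (sec y) (by
        rw [hη, show ((g * g', η g (g' • y) * η g' y) : S × S) = (g, η g (g' • y)) * (g', η g' y) from rfl,
          mul_smul, mul_smul, hη, hη])
      diag := fun y => by
        obtain ⟨P, φ, hφ, hD⟩ := hstab y
        refine ⟨P, φ, hφ, fun g hg => ?_⟩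
        obtain ⟨u, h1, h2⟩ := (hD _).mp (hfixD g y hg)
        refine ⟨h2 ▸ u.2, ?_⟩
        exact (congrArg φ (Subtype.ext h2)).trans h1.symm
      twist := fun P φ hφ => by
        obtain ⟨e, he⟩ := exists_twist_of_stable hc hst hφ
        have he1 : ∀ (t : S) (x : Orbits c), e (((1, t) : S × S) • x) = ((1, t) : S × S) • e x := fun t x => by
          have h := he 1 t x
          simp only [map_one] at h
          exact h
        have he1' : ∀ (t : S) (x : Orbits c), e.symm (((1, t) : S × S) • x) = ((1, t) : S × S) • e.symm x :=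
          fun t x => e.injective (by rw [he1, e.apply_symm_apply, e.apply_symm_apply])
        let ε : Y ≃ Y :=
          { toFun := Quotient.map e (by rintro x x' ⟨t, rfl⟩; exact ⟨t, (he1 t x').symm⟩)
            invFun := Quotient.map e.symm (by rintro x x' ⟨t, rfl⟩; exact ⟨t, (he1' t x').symm⟩)
            left_inv := fun y => Quotient.inductionOn y fun x => congrArg mk (e.symm_apply_apply x)
            right_inv := fun y => Quotient.inductionOn y fun x => congrArg mk (e.apply_symm_apply x) }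
        have hk : ∀ y, ∃ k : S, e (sec y) = ((1, k) : S × S) • sec (ε y) := fun y => by
          have h : mk (e (sec y)) = mk (sec (ε y)) := by
            rw [hsec]
            conv_rhs => rw [← hsec y]
            rfl
          obtain ⟨t, ht⟩ := hmk' h
          exact ⟨t, ht.symm⟩
        choose k hk using hk
        refine ⟨ε, k, fun u y => ?_⟩
        have h1 := he u (η ⟨u, F.source_le hφ u.2⟩ y) (sec y)
        rw [hη, hk, hk, ← mul_smul] at h1
        have h2 : ε ((⟨u, F.source_le hφ u.2⟩ : S) • y) = (⟨φ u, F.apply_mem hφ u⟩ : S) • ε y := by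
          have h3 := congrArg mk h1
          rw [hmk, hsec] at h3
          rw [h3]
          conv_rhs => rw [← hsec (ε y)]
          exact Quotient.sound ⟨η ⟨u, F.source_le hφ u.2⟩ y * k y, by
            show ((1, η ⟨u, F.source_le hφ u.2⟩ y * k y) : S × S) •
              ((⟨φ u, F.apply_mem hφ u⟩, 1) : S × S) • sec (ε y) = _
            rw [← mul_smul]; simp⟩
        refine ⟨h2, huniq ⟨φ u, F.apply_mem hφ u⟩ _ _ (sec (ε y)) ?_⟩
        rw [hη, ← h2]
        refine (MulAction.injective ((1, k ((⟨u, F.source_le hφ u.2⟩ : S) • y)) : S × S)) ?_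
        show ((1, _) : S × S) • sec _ = ((1, _) : S × S) • _
        rw [h1, ← mul_smul]
        simp [mul_assoc] }
  refine ⟨C, ?_⟩
  show (Fintype.card Y).Coprime p
  -- the fixed orbits
  haveI := Fintype.ofFinite (MulAction.fixedPoints S Y)
  have hmod : Nat.card Y ≡ Nat.card (MulAction.fixedPoints S Y) [MOD p] := hS.card_modEq_card_fixedPoints _
  haveI := finite_mulAut_of_le (le_refl S)
  have hψ : ∀ a : F.autGroup S, (S.subtype.comp (a : MulAut S).toMonoidHom) ∈ F.Hom S := fun a =>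
    (F.mem_autGroup_iff le_rfl).mp a.2
  let Δ : F.autGroup S → Subgroup (S × S) := fun a => graphDiag S (F.source_le (hψ a)) _ (F.apply_mem (hψ a))
  have hΔ : ∀ (a : F.autGroup S) (x : Orbits c), (∀ d ∈ Δ a, d • x = x) ↔
      ∀ s : S, (((a : MulAut S) s, s) : S × S) • x = x := by
    intro a x
    refine ⟨fun h s => h _ (mem_graphDiag.mpr ⟨s, rfl, rfl⟩), fun h d hd => ?_⟩
    obtain ⟨u, h1, h2⟩ := mem_graphDiag.mp hd
    rw [show d = ((a : MulAut S) u, u) from Prod.ext (Subtype.ext h1) (Subtype.ext h2)]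
    exact h u
  let f : (Σ a : F.autGroup S, {x : Orbits c // ∀ d ∈ Δ a, d • x = x}) → MulAction.fixedPoints S Y × S :=
    fun ax => (⟨mk ax.2.1, fun g => by
      obtain ⟨a, x, hx⟩ := ax
      obtain ⟨s, rfl⟩ := (a : MulAut S).surjective g
      refine Quotient.sound ⟨s⁻¹, ?_⟩
      show ((1, s⁻¹) : S × S) • x = _
      conv_lhs => rw [← (hΔ a x).mp hx s, ← mul_smul]
      simp⟩, (hmk' (hsec (mk ax.2.1)).symm).choose)
  have hf : ∀ ax, ((1, (f ax).2) : S × S) • sec ((f ax).1 : Y) = ax.2.1 := fun ax =>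
    (hmk' (hsec (mk ax.2.1)).symm).choose_spec
  have hfb : Function.Bijective f := by
    constructor
    · rintro ⟨a, x, hx⟩ ⟨b, x', hx'⟩ h
      obtain rfl : x = x' := by
        have e1 := hf ⟨a, x, hx⟩
        rw [h] at e1
        exact e1.symm.trans (hf ⟨b, x', hx'⟩)
      obtain rfl : a = b := by
        refine Subtype.ext (MulEquiv.ext fun s => ?_)
        have h1 : (((b : MulAut S) s)⁻¹ * (a : MulAut S) s, (1 : S)) • x = x := by
          calc _ = (((b : MulAut S) s, s) : S × S)⁻¹ • (((a : MulAut S) s, s) : S × S) • x := by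
                rw [← mul_smul]; simp
            _ = x := by rw [(hΔ a x).mp hx s, inv_smul_eq_iff, (hΔ b x).mp hx' s]
        have hm : mark (Orbits c) (Subgroup.zpowers (((b : MulAut S) s)⁻¹ * (a : MulAut S) s, (1 : S))) ≠ 0 :=
          (Nat.card_pos_iff.mpr ⟨⟨⟨x, fun d hd => MulAction.mem_stabilizer_iff.mp
            ((Subgroup.zpowers_le.mpr (MulAction.mem_stabilizer_iff.mpr h1)) hd)⟩⟩, inferInstance⟩).ne'
        obtain ⟨P, φ, hφ, hD⟩ := diag_of_fix hc hm
        obtain ⟨u, e1, e2⟩ := (hD _).mp (Subgroup.mem_zpowers _)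
        obtain rfl : u = 1 := Subtype.ext e2.symm
        rw [map_one] at e1
        exact (inv_mul_eq_one.mp (Subtype.ext e1)).symm
      rfl
    · rintro ⟨⟨y, hy⟩, t⟩
      set x := ((1, t) : S × S) • sec y with hxdef
      obtain ⟨P, φ, hφ, hD⟩ := hstab y
      have hgy : ∀ g : S, ∃ u : P, (g : Ω) = φ u ∧ ((η g y : S) : Ω) = u := fun g => (hD _).mp (hfixD g y (hy g))
      obtain rfl : S = P := by
        refine (Subgroup.eq_of_le_of_card_ge (F.source_le hφ) ?_).symm
        haveI : Finite P := finite_of_le (F.source_le hφ)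
        refine Nat.card_le_card_of_surjective (fun u : P => (⟨φ u, F.apply_mem hφ u⟩ : S)) fun g => ?_
        obtain ⟨u, h1, -⟩ := hgy g
        exact ⟨u, Subtype.ext h1.symm⟩
      let φS : S ≃* S := MulEquiv.ofBijective (φ.codRestrict S (F.apply_mem hφ))
        (Finite.injective_iff_bijective.mp fun a b e =>
          F.injective_of_mem hφ (congrArg (fun w : S => (w : Ω)) e))
      let a : F.autGroup S := ⟨(MulAut.conj t⁻¹).trans φS,
        F.mem_autGroup_of_map (F.comp_mem (F.conj_mem le_rfl (S.inv_mem t.2)) hφ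
          (F.apply_mem (F.conj_mem le_rfl (S.inv_mem t.2)))) fun s => rfl⟩
      have hx : ∀ s : S, (((a : MulAut S) s, s) : S × S) • x = x := by
        intro s
        have h1 : ((φS (t⁻¹ * s * t), t⁻¹ * s * t) : S × S) • sec y = sec y :=
          MulAction.mem_stabilizer_iff.mp ((hD _).mpr ⟨t⁻¹ * s * t, rfl, rfl⟩)
        have h2 : ((a : MulAut S) s) = φS (t⁻¹ * s * t) := by
          show φS (t⁻¹ * s * t⁻¹⁻¹) = _
          rw [inv_inv]
        rw [hxdef, h2]
        conv_rhs => rw [← h1]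
        simp only [← mul_smul, Prod.mk_mul_mk, mul_one, one_mul]
        congr 2
        group
      refine ⟨⟨a, x, (hΔ a x).mpr hx⟩, ?_⟩
      have hy' : ((f ⟨a, x, (hΔ a x).mpr hx⟩).1 : Y) = y := (hmk t (sec y)).trans (hsec y)
      refine Prod.ext (Subtype.ext hy') ?_
      have h3 := hf ⟨a, x, (hΔ a x).mpr hx⟩
      rw [hy'] at h3
      exact huniq 1 _ _ _ h3
  haveI := Fintype.ofFinite (F.autGroup S)
  have hsum : Nat.card (MulAction.fixedPoints S Y) * Nat.card S = Nat.card (F.autGroup S) * Nat.card (Subgroup.center S) := by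
    rw [← Nat.card_prod, ← Nat.card_congr (Equiv.ofBijective f hfb), Nat.card_sigma,
      show (∑ a, Nat.card {x : Orbits c // ∀ d ∈ Δ a, d • x = x}) = ∑ _a : F.autGroup S, Nat.card (Subgroup.center S)
        from Finset.sum_congr rfl fun a _ => htop _ (hψ a), Finset.sum_const, Finset.card_univ, smul_eq_mul,
      ← Nat.card_eq_fintype_card]
  have hinn : Nat.card (autInducedBy S S) * Nat.card (Subgroup.center S) = Nat.card S := by
    have h1 := card_autInducedBy_mul S S
    have hN : normalizerIn S S = S := inf_eq_left.mpr Subgroup.le_normalizer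
    rw [hN] at h1
    rw [← h1]
    congr 1
    exact Nat.card_congr
      { toFun := fun z => ⟨((z : S) : Ω), z.1.2, Subgroup.mem_centralizer_iff.mpr fun x hx =>
          congrArg (fun w : S => (w : Ω)) (Subgroup.mem_center_iff.mp z.2 ⟨x, hx⟩)⟩
        invFun := fun z => ⟨⟨z.1, z.2.1⟩, Subgroup.mem_center_iff.mpr fun x =>
          Subtype.ext (Subgroup.mem_centralizer_iff.mp z.2.2 x x.2)⟩
        left_inv := fun _ => rfl
        right_inv := fun _ => rfl }
  obtain hfa := (isFullyAutomized_iff (F := F) le_rfl).mp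
    (hF.isFullyAutomized_of_isFullyNormalized hS isFullyNormalized_self)
  have hA : 0 < Nat.card (F.autGroup S) := Nat.card_pos
  have hI : 0 < Nat.card (autInducedBy S S) := card_autInducedBy_pos le_rfl
  have hfix : Nat.card (MulAction.fixedPoints S Y) * Nat.card (autInducedBy S S) = Nat.card (F.autGroup S) := by
    rw [← hinn, ← mul_assoc] at hsum
    exact Nat.eq_of_mul_eq_mul_right Nat.card_pos hsum
  have hndvd : ¬ p ∣ Nat.card (MulAction.fixedPoints S Y) := by
    intro hd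
    refine Nat.pow_succ_factorization_not_dvd hA.ne' (Fact.out : p.Prime) ?_
    rw [pow_succ', ← hfa, ← hfix]
    exact mul_dvd_mul_right hd _
  refine ((Fact.out : p.Prime).coprime_iff_not_dvd.mpr fun hd => hndvd ?_).symm
  rw [← Nat.modEq_zero_iff_dvd] at hd ⊢
  rw [← Nat.card_eq_fintype_card] at hd
  exact hmod.symm.trans hd

end Cfsg.FusionSystem
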