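import Cfsg.Agent.Lib.Fusion.Transfer.Exists
import Cfsg.Agent.Lib.Fusion.Hyperfocal
import Cfsg.Agent.Lib.Fusion.Inner
import Cfsg.Agent.Lib.Tate

/-!
Tate's theorem for saturated fusion systems, by relative transfer to a central section of the
hyperfocal subgroup.
-/

set_option autoImplicit false
set_option linter.unusedSectionVars false

universe u

namespace Cfsg.FusionSystem

open scoped commutatorElement

variable {Ω : Type u} [Group Ω] {S : Subgroup Ω} {F : FusionSystem S} {p : ℕ}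

theorem hyperfocalSubgroup_mono {H : FusionSystem S} (h : H.IsSubsystemOf F) :
    H.hyperfocalSubgroup p ≤ F.hyperfocalSubgroup p :=
  hyperfocalSubgroup_le_iff.mpr fun P hP α hα hp x =>
    hyperfocal_gen_mem hP (autGroup_le_of_subsystem h hP hα) hp x
where
  /-- Automisers of a subsystem. -/
  autGroup_le_of_subsystem {H : FusionSystem S} (h : H.IsSubsystemOf F) {P : Subgroup Ω} (hP : P ≤ S)
      {α : MulAut P} (hα : α ∈ H.autGroup P) : α ∈ F.autGroup P :=
    (F.mem_autGroup_iff hP).mpr (h P ((H.mem_autGroup_iff hP).mp hα))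

theorem focalSubgroup_mono {H : FusionSystem S} (h : H.IsSubsystemOf F) :
    H.focalSubgroup ≤ F.focalSubgroup := by
  rw [FusionSystem.focalSubgroup, Subgroup.closure_le]
  rintro _ ⟨P, φ, x, hφ, rfl⟩
  exact focal_gen_mem (h P hφ) x

theorem hyperfocalSubgroup_conj_mem (s : S) {t : Ω} (ht : t ∈ F.hyperfocalSubgroup p) :
    (s : Ω) * t * (s : Ω)⁻¹ ∈ F.hyperfocalSubgroup p := by
  have hle : F.hyperfocalSubgroup p ≤ (F.hyperfocalSubgroup p).comap (MulAut.conj (s : Ω)).toMonoidHom := ?_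
  · exact hle ht
  refine hyperfocalSubgroup_le_iff.mpr fun P hP α hα hp x => ?_
  show (s : Ω) * ((x : Ω)⁻¹ * (α x : P)) * (s : Ω)⁻¹ ∈ F.hyperfocalSubgroup p
  have hc := F.conj_mem hP s.2
  have hQ : (conjHom P (s : Ω)).range ≤ S := F.range_le hc
  set e := F.isoOf hc rfl with he
  have hα' : MulAut.congr e α ∈ F.autGroup (conjHom P (s : Ω)).range := by
    rw [← F.autGroup_map_congr hc rfl]
    exact ⟨α, hα, rfl⟩
  have h1 := hyperfocal_gen_mem (p := p) hQ hα' (by
    rw [MulEquiv.orderOf_eq]; exact hp) (e x)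
  have h2 : (MulAut.congr e α) (e x) = e (α x) := by simp [MulAut.congr]
  rw [h2, he, coe_isoOf, coe_isoOf, conjHom_apply, conjHom_apply] at h1
  simpa [mul_assoc] using h1

theorem normal_hyperfocal : ((F.hyperfocalSubgroup p).subgroupOf S).Normal :=
  ⟨fun _ ht s => hyperfocalSubgroup_conj_mem s ht⟩

variable [Finite S] [Fact p.Prime]

/-- Modulo the hyperfocal subgroup every map is a conjugation. -/
theorem IsSaturated.exists_congr_conj (hF : F.IsSaturated p) (hS : IsPGroup p S) {P : Subgroup Ω} {φ : P →* Ω}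
    (hφ : φ ∈ F.Hom P) :
    ∃ s : S, ∀ x : P, ((s : Ω) * x * (s : Ω)⁻¹)⁻¹ * φ x ∈ F.hyperfocalSubgroup p := by
  set T := F.hyperfocalSubgroup p with hT
  let E : FusionSystem S :=
    { Hom := fun P => {φ | φ ∈ F.Hom P ∧ ∃ s : S, ∀ x : P, ((s : Ω) * x * (s : Ω)⁻¹)⁻¹ * φ x ∈ T}
      le_of_mem := fun h => F.le_of_mem h.1
      injective_of_mem := fun h => F.injective_of_mem h.1
      conj_mem := fun {P g} hP hg => ⟨F.conj_mem hP hg, ⟨g, hg⟩, fun x => by simp [conjHom_apply, mul_assoc]⟩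
      comp_mem := by
        rintro P Q φ ψ ⟨hφ, s, hs⟩ ⟨hψ, t, ht⟩ h
        refine ⟨F.comp_mem hφ hψ h, t * s, fun x => ?_⟩
        have h1 := hyperfocalSubgroup_conj_mem t (hs x)
        have h2 := T.mul_mem h1 (ht ⟨φ x, h x⟩)
        simpa [mul_assoc] using h2
      inv_mem := by
        rintro P φ ⟨hφ, s, hs⟩
        obtain ⟨ψ, hψ, hl⟩ := F.inv_mem hφ
        refine ⟨ψ, ⟨hψ, s⁻¹, ?_⟩, hl⟩
        rintro ⟨_, x, rfl⟩
        rw [hl]
        have h1 := T.inv_mem (hyperfocalSubgroup_conj_mem s⁻¹ (hs x))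
        have h2 : (((s⁻¹ : S) : Ω) * φ x * ((s⁻¹ : S) : Ω)⁻¹)⁻¹ * x ∈ T := by
          simpa [mul_assoc] using h1
        exact h2 }
  have key : F ≤ E := by
    refine hF.le_of_autGroup_le hS E fun P hP => ?_
    have hPS : P ≤ S := by
      rcases hP with rfl | hP
      exacts [le_rfl, hP.2.1.1]
    have hn : F.IsFullyNormalized P := by
      rcases hP with rfl | hP
      exacts [isFullyNormalized_self, hP.2.1]
    obtain ⟨-, R, hR⟩ := hF.isFullyAutomized_of_isFullyNormalized hS hn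
    have := finite_autGroup (F := F) hPS
    have h1 : pResidual p (F.autGroup P) ≤ (E.autGroup P).subgroupOf (F.autGroup P) := by
      rw [pResidual, Subgroup.closure_le]
      intro β hβ
      refine (E.mem_autGroup_iff hPS).mpr ⟨(F.mem_autGroup_iff hPS).mp β.2, 1, fun x => ?_⟩
      simp only [OneMemClass.coe_one, one_mul, inv_one, mul_one]
      exact hyperfocal_gen_mem hPS β.2 (by rwa [Subgroup.orderOf_coe]) x
    have h2 : (R : Subgroup (F.autGroup P)) ≤ (E.autGroup P).subgroupOf (F.autGroup P) := by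
      rw [hR]
      exact fun β hβ => autInducedBy_le_autGroup hPS hβ
    intro α hα
    have h3 := sup_le h2 h1
    rw [CfsgLib.Transfer.sylow_sup_pResidual R] at h3
    exact h3 (x := ⟨α, hα⟩) trivial
  exact (key P hφ).2

/-- **Tate's theorem.** A normal subgroup of `S` inside the hyperfocal subgroup which generates it together
with the Frattini subgroup is equal to it. -/
theorem IsSaturated.hyperfocal_le (hF : F.IsSaturated p) (hS : IsPGroup p S) {M : Subgroup S} [M.Normal]
    (hM : M ≤ (F.hyperfocalSubgroup p).subgroupOf S) (h : (F.hyperfocalSubgroup p).subgroupOf S ≤ frattini S ⊔ M) :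
    (F.hyperfocalSubgroup p).subgroupOf S ≤ M := by
  set T := (F.hyperfocalSubgroup p).subgroupOf S with hT
  haveI : T.Normal := normal_hyperfocal
  by_contra hne
  have hTb : T.map (QuotientGroup.mk' M) ≠ ⊥ := by
    rwa [ne_eq, Subgroup.map_eq_bot_iff, QuotientGroup.ker_mk']
  haveI : (T.map (QuotientGroup.mk' M)).Normal :=
    Subgroup.Normal.map inferInstance _ (QuotientGroup.mk'_surjective M)
  obtain ⟨R', hR'n, hR'T, hcard, hcen⟩ := CfsgLib.exists_normal_maximal_below (hS.to_quotient M) hTb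
  let g : S →* (S ⧸ M) ⧸ R' := (QuotientGroup.mk' R').comp (QuotientGroup.mk' M)
  set R := g.ker with hR
  have hRT : R ≤ T := by
    intro x hx
    obtain ⟨t, ht, e⟩ := hR'T ((QuotientGroup.eq_one_iff _).mp hx)
    have h1 : t⁻¹ * x ∈ M := QuotientGroup.eq.mp e
    have := T.mul_mem ht (hM h1)
    rwa [mul_inv_cancel_left] at this
  have hMR : M ≤ R := fun x hx => by
    show g x = 1
    simp [g, (QuotientGroup.eq_one_iff x).mpr hx]
  have hZ : Nat.card (T.map (QuotientGroup.mk' R)) = p := by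
    rw [← Subgroup.relIndex_ker T (QuotientGroup.mk' R), QuotientGroup.ker_mk', hR, Subgroup.relIndex_ker,
      ← hcard, Subgroup.map_map]
  have hcen' : T.map (QuotientGroup.mk' R) ≤ Subgroup.center (S ⧸ R) := by
    rintro _ ⟨t, ht, rfl⟩
    refine Subgroup.mem_center_iff.mpr fun x => ?_
    obtain ⟨s, rfl⟩ := QuotientGroup.mk'_surjective R x
    rw [← map_mul, ← map_mul]
    refine QuotientGroup.eq.mpr ?_
    show g _ = 1
    rw [map_mul, map_inv, map_mul, map_mul, inv_mul_eq_one]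
    exact Subgroup.mem_center_iff.mp (hcen ⟨_, ⟨t, ht, rfl⟩, rfl⟩) (g s)
  obtain ⟨C, hd⟩ := hF.exists_cocycle hS
  set d := Fintype.card C.Y with hddef
  obtain ⟨W, hWZ, hW⟩ := C.exists_relTransfer hRT hcen' fun P φ hφ => by
    obtain ⟨s, hs⟩ := hF.exists_congr_conj hS hφ
    refine ⟨(s : S ⧸ T), fun u => ?_⟩
    rw [← QuotientGroup.mk_mul, ← QuotientGroup.mk_inv, ← QuotientGroup.mk_mul, eq_comm, QuotientGroup.eq]
    exact hs u
  let Z := T.map (QuotientGroup.mk' R)
  let _ : CommGroup Z := { (inferInstance : Group Z) with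
    mul_comm := fun a b => Subtype.ext (Subgroup.mem_center_iff.mp (hcen' b.2) a) }
  let ρ : T →* Z := ((QuotientGroup.mk' R).comp T.subtype).codRestrict Z fun t => ⟨t, t.2, rfl⟩
  let W' : S →* Z := W.codRestrict Z hWZ
  let ν : T →* Z := W'.comp T.subtype / (powMonoidHom d).comp ρ
  have hν : ∀ t, ν t = W' t / ρ t ^ d := fun t => rfl
  have hinv : ∀ (P : Subgroup Ω) (φ : P →* Ω) (hφ : φ ∈ F.Hom P) (u : P)
      (h1 : (⟨u, F.source_le hφ u.2⟩ : S) ∈ T) (h2 : (⟨φ u, F.apply_mem hφ u⟩ : S) ∈ T),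
      ν ⟨_, h2⟩ = ν ⟨_, h1⟩ := by
    intro P φ hφ u h1 h2
    have h3 : W' ⟨φ u, F.apply_mem hφ u⟩ = W' ⟨u, F.source_le hφ u.2⟩ * (ρ ⟨_, h2⟩ / ρ ⟨_, h1⟩) ^ d := by
      refine Subtype.ext ((hW P φ hφ u h1 h2).trans ?_)
      rw [div_eq_mul_inv, ← map_inv, ← map_mul]
      rfl
    rw [hν, hν, h3, div_pow, mul_div_assoc, div_div_cancel_left, div_eq_mul_inv]
  have hZp : IsPGroup p Z := IsPGroup.of_card (n := 1) (by rw [pow_one]; exact hZ)
  have hν1 : ∀ t : T, ν t = 1 := by
    suffices hle : F.hyperfocalSubgroup p ≤ (ν.ker.map T.subtype).map S.subtype by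
      intro t
      obtain ⟨_, ⟨k, hk, rfl⟩, e⟩ := hle t.2
      rwa [← Subtype.ext (Subtype.ext e) (a1 := k) (a2 := t)]
    refine hyperfocalSubgroup_le_iff.mpr fun P hP α hα hp x => ?_
    obtain ⟨φ, hφ, -, he⟩ := F.exists_map_of_mem_autGroup hP hα
    let a : ℕ → T := fun i => ⟨⟨(((α ^ i) x)⁻¹ * (α ^ (i + 1)) x : P), hP (SetLike.coe_mem _)⟩, by
      have := hyperfocal_gen_mem hP hα hp ((α ^ i) x)
      rw [pow_succ']
      exact this⟩
    have hstep : ∀ i, ν (a (i + 1)) = ν (a i) := by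
      intro i
      have h1 := hinv P φ hφ (((α ^ i) x)⁻¹ * (α ^ (i + 1)) x) (a i).2
      have e : (⟨φ (((α ^ i) x)⁻¹ * (α ^ (i + 1)) x), F.apply_mem hφ _⟩ : S) = (a (i + 1) : S) := by
        refine Subtype.ext ?_
        show φ _ = ((((α ^ (i + 1)) x)⁻¹ * (α ^ (i + 1 + 1)) x : P) : Ω)
        rw [he, map_mul, map_inv]
        simp only [pow_succ', MulAut.mul_apply]
      have h2 := h1 (e ▸ (a (i + 1)).2)
      rw [show a (i + 1) = ⟨_, e ▸ (a (i + 1)).2⟩ from Subtype.ext e.symm]
      exact h2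
    have hall : ∀ i, ν (a i) = ν (a 0) := fun i => by
      induction i with
      | zero => rfl
      | succ i ih => rw [hstep, ih]
    have hprod : ∀ n, ν (a 0) ^ n = ν ⟨⟨(x⁻¹ * (α ^ n) x : P), hP (SetLike.coe_mem _)⟩,
        telescope hP hα hp x n⟩ := by
      intro n
      induction n with
      | zero =>
        rw [pow_zero, eq_comm]
        convert map_one ν using 2
        exact Subtype.ext (Subtype.ext (by simp))
      | succ n ih =>
        rw [pow_succ, ih, ← hall n, ← map_mul]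
        congr 1
        refine Subtype.ext (Subtype.ext ?_)
        simp [a, mul_assoc]
    have h3 := hprod (orderOf α)
    have h4 : ν (a 0) = 1 := by
      have h5 : ν (a 0) ^ orderOf α = 1 := by
        rw [h3]
        convert map_one ν using 2
        exact Subtype.ext (Subtype.ext (by simp [pow_orderOf_eq_one]))
      refine (hZp.powEquiv ?_).injective (h5.trans (one_pow _).symm)
      exact hp.symm
    refine ⟨(a 0 : S), ⟨a 0, h4, rfl⟩, ?_⟩
    show (((((α ^ 0) x)⁻¹ * (α ^ (0 + 1)) x : P)) : Ω) = _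
    simp
  have hWT : ∀ t : T, W' t = ρ t ^ d := fun t => div_eq_one.mp ((hν t).symm.trans (hν1 t))
  have hdp : (Nat.card Z).Coprime d := by rw [hZ]; exact hd.symm
  have hρ : ∀ t : T, W' t = 1 → ρ t = 1 := fun t ht => by
    rw [hWT] at ht
    exact (powCoprime hdp).injective (ht.trans (one_pow _).symm)
  have hker : T ≤ W'.ker := by
    refine h.trans (sup_le ?_ fun m hm => ?_)
    · have h1 : W'.ker.index ∣ p := by
        rw [Subgroup.index_ker, ← hZ]
        exact Subgroup.card_subgroup_dvd_card _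
      rcases (Nat.dvd_prime (Fact.out : p.Prime)).mp h1 with h2 | h2
      · rw [Subgroup.index_eq_one.mp h2]; exact le_top
      · exact CfsgLib.frattini_le_of_index_prime h2
    · show W' m = 1
      rw [show W' m = W' ((⟨m, hM hm⟩ : T) : S) from rfl, hWT,
        show ρ ⟨m, hM hm⟩ = 1 from Subtype.ext ((QuotientGroup.eq_one_iff m).mpr (hMR hm)), one_pow]
  have hbot : T.map (QuotientGroup.mk' R) = ⊥ := (Subgroup.eq_bot_iff_forall _).mpr fun z hz => by
    obtain ⟨t, ht, rfl⟩ := hz
    exact congrArg (fun w : Z => (w : S ⧸ R)) (hρ ⟨t, ht⟩ (hker ht))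
  rw [hbot, Subgroup.card_bot] at hZ
  exact (Fact.out : p.Prime).ne_one hZ.symm
where
  /-- A quotient along a power of an automorphism of order prime to `p`. -/
  telescope {P : Subgroup Ω} (hP : P ≤ S) {α : MulAut P} (hα : α ∈ F.autGroup P)
      (hp : (orderOf α).Coprime p) (x : P) (n : ℕ) :
      (⟨((x⁻¹ * (α ^ n) x : P) : Ω), hP (SetLike.coe_mem _)⟩ : S) ∈ (F.hyperfocalSubgroup p).subgroupOf S :=
    hyperfocal_gen_mem hP ((F.autGroup P).pow_mem hα n) (hp.coprime_dvd_left (orderOf_pow_dvd n)) x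

/-- A saturated system with trivial hyperfocal subgroup is inner. -/
theorem IsSaturated.eq_inner_of_hyperfocal_le_frattini (hF : F.IsSaturated p) (hS : IsPGroup p S)
    (h : F.hyperfocalSubgroup p ≤ (frattini S).map S.subtype) (P : Subgroup Ω) :
    F.Hom P = (innerFusionSystem S).Hom P := by
  have h1 : (F.hyperfocalSubgroup p).subgroupOf S ≤ ⊥ := hF.hyperfocal_le hS bot_le (by
    intro x hx
    obtain ⟨y, hy, e⟩ := h hx
    obtain rfl : y = x := Subtype.ext e
    exact Subgroup.mem_sup_left hy)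
  have hbot : F.hyperfocalSubgroup p = ⊥ := (Subgroup.eq_bot_iff_forall _).mpr fun x hx =>
    congrArg Subtype.val (Subgroup.mem_bot.mp (h1 (x := ⟨x, hyperfocalSubgroup_le hx⟩) hx))
  suffices hle : F ≤ innerFusionSystem S from Set.Subset.antisymm (hle P) (innerFusionSystem_le F P)
  intro P φ hφ
  obtain ⟨s, hs⟩ := hF.exists_congr_conj hS hφ
  refine ⟨F.source_le hφ, s, s.2, fun x => ?_⟩
  have := hs x
  rw [hbot, Subgroup.mem_bot, inv_mul_eq_one] at this
  exact this.symm

/-- Tate's theorem for a subsystem. -/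
theorem IsSaturated.hyperfocal_eq (hF : F.IsSaturated p) (hS : IsPGroup p S) {H : FusionSystem S}
    (hHF : H.IsSubsystemOf F) (hH : H.IsSaturated p)
    (h : F.focalSubgroup ≤ (frattini S).map S.subtype ⊔ H.focalSubgroup) :
    F.hyperfocalSubgroup p = H.hyperfocalSubgroup p := by
  haveI : ((H.hyperfocalSubgroup p).subgroupOf S).Normal := normal_hyperfocal
  refine le_antisymm (fun x hx => ?_) (hyperfocalSubgroup_mono hHF)
  have hxS : x ∈ S := hyperfocalSubgroup_le hx
  refine hF.hyperfocal_le hS (M := (H.hyperfocalSubgroup p).subgroupOf S) ?_ ?_ (x := ⟨x, hxS⟩) hx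
  · exact Subgroup.comap_mono (hyperfocalSubgroup_mono hHF)
  · have hsup : F.hyperfocalSubgroup p ≤
        (frattini S ⊔ (H.hyperfocalSubgroup p).subgroupOf S).map S.subtype := by
      rw [Subgroup.map_sup, Subgroup.map_subgroupOf_eq_of_le hyperfocalSubgroup_le]
      refine hyperfocalSubgroup_le_focalSubgroup.trans (h.trans (sup_le le_sup_left ?_))
      rw [hH.focalSubgroup_eq hS]
      refine sup_le le_sup_right (le_trans ?_ le_sup_left)
      rw [← Subgroup.map_subtype_commutator]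
      exact Subgroup.map_mono (CfsgLib.commutator_le_frattini_pGroup hS)
    intro y hy
    obtain ⟨z, hz, e⟩ := hsup hy
    obtain rfl : z = y := Subtype.ext e
    exact hz

end Cfsg.FusionSystem
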