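import Cfsg.Agent.Lib.Fusion.Transfer.Exists
import Cfsg.Agent.Lib.Fusion.Center
import Cfsg.Agent.Lib.Fusion.Hyperfocal
import Mathlib.GroupTheory.Abelianization.Defs

/-!
Transfer and central subgroups: the focal subgroup meets the centre inside `[S, S]`.
-/

set_option autoImplicit false
set_option linter.unusedSectionVars false

universe u

namespace Cfsg.FusionSystem

variable {Ω : Type u} [Group Ω] {S : Subgroup Ω} {F : FusionSystem S} {p : ℕ} [Finite S] [Fact p.Prime]

/-- Central elements are central in `S` and fixed by every map. -/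
theorem IsCentral.apply_eq {Q : Subgroup Ω} (hQ : F.IsCentral Q) {P : Subgroup Ω} {φ : P →* Ω} (hφ : φ ∈ F.Hom P)
    {z : P} (hz : (z : Ω) ∈ Q) : φ z = z := by
  obtain ⟨ψ, -, hψe, hψQ⟩ := hQ.2 P φ hφ
  rw [← hψe z]
  exact hψQ ⟨_, hz⟩

theorem IsCentral.commute {Q : Subgroup Ω} (hQ : F.IsCentral Q) {z s : Ω} (hz : z ∈ Q) (hs : s ∈ S) :
    s * z = z * s := by
  have h : s * z * s⁻¹ = z := hQ.apply_eq (F.conj_mem (P := Q) hQ.1 hs) (z := ⟨z, hz⟩) hz
  rw [mul_inv_eq_iff_eq_mul] at h
  exact h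

/-- A biset of degree prime to `p` fixed by a central subgroup. -/
theorem IsSaturated.exists_cocycle_fixed (hF : F.IsSaturated p) (hS : IsPGroup p S) {Q : Subgroup Ω}
    (hQ : F.IsCentral Q) :
    ∃ C : F.Cocycle, (Fintype.card C.Y).Coprime p ∧ ∀ z : S, (z : Ω) ∈ Q → ∀ y, C.η z y = z := by
  classical
  obtain ⟨C, hC⟩ := hF.exists_cocycle hS
  have hc : ∀ (z : S), (z : Ω) ∈ Q → ∀ g : S, z * g = g * z := fun z hz g =>
    Subtype.ext (hQ.commute hz g.2).symm
  let s : Set C.Y := {y | ∀ z : S, (z : Ω) ∈ Q → z • y = y ∧ C.η z y = z}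
  have hs : ∀ (g : S), ∀ y ∈ s, g • y ∈ s := by
    intro g y hy z hz
    obtain ⟨h1, h2⟩ := hy z hz
    refine ⟨by rw [← mul_smul, hc z hz g, mul_smul, h1], ?_⟩
    have h3 := C.η_mul z g y
    rw [hc z hz g, C.η_mul, h1, h2, ← hc z hz (C.η g y)] at h3
    exact (mul_right_cancel h3).symm
  let actS : MulAction S s :=
    { smul := fun g y => ⟨g • (y : C.Y), hs g y y.2⟩
      one_smul := fun y => Subtype.ext (one_smul S (y : C.Y))
      mul_smul := fun g g' y => Subtype.ext (mul_smul g g' (y : C.Y)) }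
  haveI : Fintype s := Fintype.ofFinite _
  let D : F.Cocycle :=
    { Y := s
      fintype := inferInstance
      act := actS
      η := fun g y => C.η g y
      η_mul := fun g g' y => C.η_mul g g' y
      diag := fun y => by
        obtain ⟨P, φ, hφ, hd⟩ := C.diag y
        exact ⟨P, φ, hφ, fun g hg => hd g (congrArg Subtype.val hg)⟩
      twist := fun P φ hφ => by
        obtain ⟨ψ, hψ, hψe, hψQ⟩ := hQ.2 P φ hφ
        obtain ⟨e, k, he⟩ := C.twist _ ψ hψ
        have hz : ∀ (z : S) (hz : (z : Ω) ∈ Q) (y : C.Y), e (z • y) = z • e y ∧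
            C.η z (e y) = (k (z • y))⁻¹ * C.η z y * k y := by
          intro z hz y
          have h1 := he ⟨z, Subgroup.mem_sup_right hz⟩ y
          have e1 : (⟨ψ ⟨z, Subgroup.mem_sup_right hz⟩, F.apply_mem hψ _⟩ : S) = z := Subtype.ext (hψQ ⟨z, hz⟩)
          rw [e1] at h1
          exact h1
        have hes : ∀ y, e y ∈ s ↔ y ∈ s := by
          intro y
          refine forall₂_congr fun z hz' => ?_
          obtain ⟨h1, h2⟩ := hz z hz' y
          rw [← h1, e.apply_eq_iff_eq, h2]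
          constructor
          · rintro ⟨h3, h4⟩
            refine ⟨h3, ?_⟩
            rw [h3] at h4
            calc C.η z y = k y * ((k y)⁻¹ * C.η z y * k y) * (k y)⁻¹ := by group
              _ = z := by rw [h4, ← hc z hz' (k y), mul_inv_cancel_right]
          · rintro ⟨h3, h4⟩
            refine ⟨h3, ?_⟩
            rw [h3, h4, mul_assoc, hc z hz' (k y), inv_mul_cancel_left]
        refine ⟨e.subtypeEquiv fun y => (hes y).symm, fun y => k y, fun u y => ?_⟩
        have h1 := he ⟨u, Subgroup.mem_sup_left u.2⟩ y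
        have e1 : (⟨ψ ⟨u, Subgroup.mem_sup_left u.2⟩, F.apply_mem hψ _⟩ : S) = ⟨φ u, F.apply_mem hφ u⟩ :=
          Subtype.ext (hψe u)
        rw [e1] at h1
        exact ⟨Subtype.ext h1.1, h1.2⟩ }
  refine ⟨D, ?_, fun z hz y => (y.2 z hz).2⟩
  show (Fintype.card s).Coprime p
  have hfix : ∀ y : C.Y, (∀ g : S, g • y = y) → y ∈ s := by
    intro y hy z hz
    refine ⟨hy z, ?_⟩
    obtain ⟨P, φ, hφ, hd⟩ := C.diag y
    obtain ⟨h, e⟩ := hd z (hy z)
    haveI : Finite P := finite_of_le (F.source_le hφ)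
    have hPS : P = S := by
      refine Subgroup.eq_of_le_of_card_ge (F.source_le hφ) ?_
      refine Nat.card_le_card_of_surjective (fun u : P => (⟨φ u, F.apply_mem hφ u⟩ : S)) fun g => ?_
      obtain ⟨h', e'⟩ := hd g (hy g)
      exact ⟨⟨_, h'⟩, Subtype.ext e'⟩
    have hzP : (z : Ω) ∈ P := hPS ▸ z.2
    have e2 : φ ⟨z, hzP⟩ = z := hQ.apply_eq hφ hz
    exact Subtype.ext (congrArg (fun w : P => (w : Ω)) (F.injective_of_mem hφ (e.trans e2.symm)))
  haveI := Fintype.ofFinite (MulAction.fixedPoints S C.Y)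
  haveI := Fintype.ofFinite (MulAction.fixedPoints S s)
  have h1 : Nat.card C.Y ≡ Nat.card (MulAction.fixedPoints S C.Y) [MOD p] := hS.card_modEq_card_fixedPoints _
  have h2 : Nat.card s ≡ Nat.card (MulAction.fixedPoints S s) [MOD p] := hS.card_modEq_card_fixedPoints _
  have h3 : Nat.card (MulAction.fixedPoints S C.Y) = Nat.card (MulAction.fixedPoints S s) := Nat.card_congr
    { toFun := fun y => ⟨⟨y, hfix y y.2⟩, fun g => Subtype.ext (y.2 g)⟩
      invFun := fun y => ⟨y.1.1, fun g => congrArg Subtype.val (y.2 g)⟩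
      left_inv := fun _ => rfl
      right_inv := fun _ => rfl }
  rw [h3] at h1
  have h4 := h2.trans h1.symm
  rw [← Nat.card_eq_fintype_card]
  rw [← Nat.card_eq_fintype_card] at hC
  exact ((Nat.ModEq.gcd_eq h4).trans hC :)

/-- The focal subgroup meets a central subgroup in `[S, S]`. -/
theorem IsSaturated.focal_inf_central_le (hF : F.IsSaturated p) (hS : IsPGroup p S) {Q : Subgroup Ω}
    (hQ : F.IsCentral Q) : F.focalSubgroup ⊓ Q ≤ (commutator S).map S.subtype := by
  rintro z ⟨hzf, hzQ⟩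
  obtain ⟨C, hd, hfix⟩ := hF.exists_cocycle_fixed hS hQ
  let τ := C.transfer (Abelianization.of (G := S))
  have hker : F.focalSubgroup ≤ τ.ker.map S.subtype := by
    rw [FusionSystem.focalSubgroup, Subgroup.closure_le]
    rintro _ ⟨P, φ, x, hφ, rfl⟩
    refine ⟨⟨x, F.source_le hφ x.2⟩⁻¹ * ⟨φ x, F.apply_mem hφ x⟩, ?_, rfl⟩
    show τ _ = 1
    rw [map_mul, map_inv, C.transfer_map _ hφ x, inv_mul_cancel]
  obtain ⟨z', hz', e⟩ := hker hzf
  have h1 : τ z' = 1 := hz'
  rw [show τ z' = Abelianization.of z' ^ Fintype.card C.Y from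
    C.transfer_of_fixed _ z' (hfix z' (by exact (show (z' : Ω) = z from e) ▸ hzQ))] at h1
  have hA : IsPGroup p (Abelianization S) := hS.of_surjective (Abelianization.of (G := S)) QuotientGroup.mk_surjective
  have h2 : Abelianization.of z' = 1 := by
    refine (hA.powEquiv hd.symm).injective ?_
    exact h1.trans (one_pow _).symm
  exact ⟨z', (QuotientGroup.eq_one_iff z').mp h2, e⟩

end Cfsg.FusionSystem
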