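import Cfsg.Agent.Lib.Fusion.Basic

/-!
Transfer for fusion systems, along a left stable biset described by a cocycle on its left orbits.
-/

set_option autoImplicit false
set_option linter.unusedSectionVars false

universe u v

namespace Cfsg.FusionSystem

variable {Ω : Type u} [Group Ω] {S : Subgroup Ω} {F : FusionSystem S}

/-- A biset with free right action, by a section of its right orbits `Y`: the pair `(g, η g y)` maps the
point over `y` to the point over `g • y`. The stabilisers are diagonals of the system and twisting the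
left action by a map of the system gives an isomorphic biset. -/
structure Cocycle (F : FusionSystem S) : Type (u + 1) where
  Y : Type u
  fintype : Fintype Y
  act : MulAction S Y
  η : S → Y → S
  η_mul : ∀ g g' y, η (g * g') y = η g (g' • y) * η g' y
  diag : ∀ y : Y, ∃ (P : Subgroup Ω) (φ : P →* Ω), φ ∈ F.Hom P ∧
    ∀ g : S, g • y = y → ∃ h : ((η g y : S) : Ω) ∈ P, φ ⟨_, h⟩ = g
  twist : ∀ (P : Subgroup Ω) (φ : P →* Ω) (hφ : φ ∈ F.Hom P), ∃ (e : Y ≃ Y) (k : Y → S), ∀ (u : P) (y : Y),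
    e ((⟨u, F.source_le hφ u.2⟩ : S) • y) = (⟨φ u, F.apply_mem hφ u⟩ : S) • e y ∧
      η ⟨φ u, F.apply_mem hφ u⟩ (e y) =
        (k ((⟨u, F.source_le hφ u.2⟩ : S) • y))⁻¹ * η ⟨u, F.source_le hφ u.2⟩ y * k y

attribute [instance] Cocycle.fintype Cocycle.act

namespace Cocycle

theorem shuffle {Γ : Type v} [Group Γ] {a b c c' h u v z₁ z₂ z₃ : Γ} (hu : u ∈ Subgroup.center Γ)
    (hv : v ∈ Subgroup.center Γ) (h₁ : z₁ ∈ Subgroup.center Γ) (h₂ : z₂ ∈ Subgroup.center Γ)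
    (h₃ : z₃ ∈ Subgroup.center Γ) :
    (a * (u * b * h⁻¹ * z₁⁻¹) * c' * z₃)⁻¹ * v * (a * b * c * z₂) * (c'⁻¹ * h * c)⁻¹ * z₃ =
      v * u⁻¹ * (z₁ * z₂) := by
  have k : ∀ {z : Γ}, z ∈ Subgroup.center Γ → ∀ x : Γ, x * z * x⁻¹ = z := fun hz x => by
    rw [Subgroup.mem_center_iff.mp hz x, mul_inv_cancel_right]
  calc _ = z₃⁻¹ * (c'⁻¹ * (z₁ * (h * ((b⁻¹ * (u⁻¹ * (a⁻¹ * v * (a⁻¹)⁻¹)) * (b⁻¹)⁻¹) * (c * z₂ * c⁻¹)) * h⁻¹)) *
        (c'⁻¹)⁻¹) * (z₃⁻¹)⁻¹ := by group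
    _ = z₁ * ((u⁻¹ * v) * z₂) := by
        rw [k hv, k (mul_mem (Subgroup.inv_mem _ hu) hv), k h₂, k (mul_mem (mul_mem (Subgroup.inv_mem _ hu) hv) h₂),
          k (mul_mem h₁ (mul_mem (mul_mem (Subgroup.inv_mem _ hu) hv) h₂)),
          k (mul_mem h₁ (mul_mem (mul_mem (Subgroup.inv_mem _ hu) hv) h₂))]
    _ = v * u⁻¹ * (z₁ * z₂) := by
        rw [Subgroup.mem_center_iff.mp hv u⁻¹]
        rw [← mul_assoc z₁, ← Subgroup.mem_center_iff.mp h₁ (v * u⁻¹)]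
        simp only [mul_assoc]

variable (C : F.Cocycle)

theorem η_one (y : C.Y) : C.η 1 y = 1 := by
  have h := C.η_mul 1 1 y
  rw [one_mul, one_smul] at h
  exact left_eq_mul.mp h

theorem prod_smul {A : Type v} [CommGroup A] (g : S) (f : C.Y → A) : ∏ y, f (g • y) = ∏ y, f y :=
  Fintype.prod_equiv (MulAction.toPerm g) _ _ fun _ => rfl

/-- The transfer along the biset. -/
def transfer {A : Type v} [CommGroup A] (π : S →* A) : S →* A :=
  MonoidHom.mk' (fun g => ∏ y, π (C.η g y)) fun g g' => by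
    simp only [C.η_mul, map_mul, Finset.prod_mul_distrib]
    rw [C.prod_smul g' fun y => π (C.η g y)]

theorem transfer_apply {A : Type v} [CommGroup A] (π : S →* A) (g : S) :
    C.transfer π g = ∏ y, π (C.η g y) := rfl

/-- The transfer takes equal values on conjugate elements. -/
theorem transfer_map {A : Type v} [CommGroup A] (π : S →* A) {P : Subgroup Ω} {φ : P →* Ω}
    (hφ : φ ∈ F.Hom P) (u : P) :
    C.transfer π ⟨φ u, F.apply_mem hφ u⟩ = C.transfer π ⟨u, F.source_le hφ u.2⟩ := by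
  obtain ⟨e, k, he⟩ := C.twist P φ hφ
  rw [transfer_apply, ← Fintype.prod_equiv e (fun y => π (C.η ⟨φ u, F.apply_mem hφ u⟩ (e y)))
    (fun y => π (C.η ⟨φ u, F.apply_mem hφ u⟩ y)) fun _ => rfl, transfer_apply]
  simp only [(he u _).2, map_mul, map_inv, Finset.prod_mul_distrib, Finset.prod_inv_distrib]
  rw [C.prod_smul (⟨u, F.source_le hφ u.2⟩ : S) fun y => π (k y)]
  rw [mul_right_comm, inv_mul_cancel, one_mul]

/-- An equivariant map to a group in which all maps of the system become inner. -/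
theorem exists_equivariant {Γ : Type v} [Group Γ] (q : S →* Γ)
    (hq : ∀ (P : Subgroup Ω) (φ : P →* Ω) (hφ : φ ∈ F.Hom P), ∃ c : Γ, ∀ u : P,
      q ⟨φ u, F.apply_mem hφ u⟩ = c * q ⟨u, F.source_le hφ u.2⟩ * c⁻¹) :
    ∃ w : C.Y → Γ, ∀ (g : S) (y : C.Y), w (g • y) = q g * w y * (q (C.η g y))⁻¹ := by
  classical
  let r : C.Y → C.Y := fun y => (Quotient.mk (MulAction.orbitRel S C.Y) y).out
  have hr : ∀ (g : S) (y : C.Y), r (g • y) = r y := fun g y => by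
    show (Quotient.mk (MulAction.orbitRel S C.Y) (g • y)).out = _
    rw [Quotient.sound (s := MulAction.orbitRel S C.Y) (show g • y ∈ MulAction.orbit S y from ⟨g, rfl⟩)]
  have hry : ∀ y, ∃ g : S, g • r y = y := fun y => by
    have h : r y ∈ MulAction.orbit S y := Quotient.mk_out (s := MulAction.orbitRel S C.Y) y
    obtain ⟨g, hg⟩ := h
    exact ⟨g⁻¹, by rw [← hg]; exact inv_smul_smul g y⟩
  choose gy hgy using hry
  have hc : ∀ y, ∃ c : Γ, ∀ σ : S, σ • y = y → q σ * c = c * q (C.η σ y) := fun y => by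
    obtain ⟨P, φ, hφ, hd⟩ := C.diag y
    obtain ⟨c, hc⟩ := hq P φ hφ
    refine ⟨c, fun σ hσ => ?_⟩
    obtain ⟨h, e⟩ := hd σ hσ
    have h1 := hc ⟨_, h⟩
    rw [show (⟨φ ⟨_, h⟩, F.apply_mem hφ _⟩ : S) = σ from Subtype.ext e] at h1
    rw [h1, inv_mul_cancel_right]
  choose c hc using hc
  refine ⟨fun y => q (gy y) * c (r y) * (q (C.η (gy y) (r y)))⁻¹, fun g y => ?_⟩
  have hσ : ((g * gy y)⁻¹ * gy (g • y)) • r y = r y := by
    have e1 : gy (g • y) • r y = g • y := by rw [← hr g y]; exact hgy _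
    rw [mul_smul, e1, mul_inv_rev, mul_smul, inv_smul_smul, inv_smul_eq_iff, hgy]
  set σ := (g * gy y)⁻¹ * gy (g • y) with hσdef
  have e2 : gy (g • y) = g * gy y * σ := (mul_inv_cancel_left (g * gy y) _).symm
  show q (gy (g • y)) * c (r (g • y)) * (q (C.η (gy (g • y)) (r (g • y))))⁻¹ = _
  rw [hr, e2, C.η_mul, hσ, C.η_mul, hgy]
  clear_value σ
  rw [map_mul, map_mul, map_mul, map_mul, mul_inv_rev, mul_inv_rev]
  calc q g * q (gy y) * q σ * c (r y) * ((q (C.η σ (r y)))⁻¹ * ((q (C.η (gy y) (r y)))⁻¹ * (q (C.η g y))⁻¹))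
      = q g * q (gy y) * (q σ * c (r y)) * ((q (C.η σ (r y)))⁻¹ * ((q (C.η (gy y) (r y)))⁻¹ * (q (C.η g y))⁻¹)) := by
        simp only [mul_assoc]
    _ = q g * (q (gy y) * c (r y) * (q (C.η (gy y) (r y)))⁻¹) * (q (C.η g y))⁻¹ := by
        rw [hc _ σ hσ]
        group

/-- A character killing the focal quotients is raised to the degree. -/
theorem transfer_eq_pow {A : Type v} [CommGroup A] (π : S →* A)
    (hπ : ∀ (P : Subgroup Ω) (φ : P →* Ω) (hφ : φ ∈ F.Hom P) (u : P),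
      π ⟨φ u, F.apply_mem hφ u⟩ = π ⟨u, F.source_le hφ u.2⟩) (g : S) :
    C.transfer π g = π g ^ Fintype.card C.Y := by
  obtain ⟨w, hw⟩ := C.exists_equivariant π fun P φ hφ => ⟨1, fun u => by simp [hπ P φ hφ u]⟩
  have h : ∀ y, π (C.η g y) = π g * (w y / w (g • y)) := fun y => by
    rw [hw, div_eq_mul_inv, mul_inv_rev, inv_inv, mul_inv_rev]
    rw [mul_comm (π (C.η g y)) _, mul_assoc]
    simp [mul_comm]
  rw [transfer_apply, Finset.prod_congr rfl fun y _ => h y, Finset.prod_mul_distrib, Finset.prod_const,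
    Finset.prod_div_distrib, C.prod_smul g w, div_self', mul_one, Finset.card_univ]

/-- The values of the transfer on a central subgroup fixing the biset. -/
theorem transfer_of_fixed {A : Type v} [CommGroup A] (π : S →* A) (z : S) (hz : ∀ y, C.η z y = z) :
    C.transfer π z = π z ^ Fintype.card C.Y := by
  simp [transfer_apply, hz, Finset.card_univ]

variable {T R : Subgroup S} [T.Normal] [R.Normal]

/-- Relative transfer to a central section `T/R`, where all maps are inner modulo `T`: it moves with every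
map exactly as the `d`-th power does. -/
theorem exists_relTransfer (hRT : R ≤ T) (hcen : T.map (QuotientGroup.mk' R) ≤ Subgroup.center (S ⧸ R))
    (hmod : ∀ (P : Subgroup Ω) (φ : P →* Ω) (hφ : φ ∈ F.Hom P), ∃ c : S ⧸ T, ∀ u : P,
      ((⟨φ u, F.apply_mem hφ u⟩ : S) : S ⧸ T) = c * ((⟨u, F.source_le hφ u.2⟩ : S) : S ⧸ T) * c⁻¹) :
    ∃ W : S →* S ⧸ R, (∀ g, W g ∈ T.map (QuotientGroup.mk' R)) ∧
      ∀ (P : Subgroup Ω) (φ : P →* Ω) (hφ : φ ∈ F.Hom P) (u : P),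
        (⟨u, F.source_le hφ u.2⟩ : S) ∈ T → (⟨φ u, F.apply_mem hφ u⟩ : S) ∈ T →
        W ⟨φ u, F.apply_mem hφ u⟩ = W ⟨u, F.source_le hφ u.2⟩ *
          ((⟨φ u, F.apply_mem hφ u⟩ * (⟨u, F.source_le hφ u.2⟩ : S)⁻¹ : S) : S ⧸ R) ^ Fintype.card C.Y := by
  classical
  set Z := T.map (QuotientGroup.mk' R) with hZdef
  let _ : CommGroup Z := { (inferInstance : Group Z) with
    mul_comm := fun a b => Subtype.ext (Subgroup.mem_center_iff.mp (hcen b.2) a) }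
  have hZc : ∀ a ∈ Z, ∀ x : S ⧸ R, x * a = a * x := fun a ha x => Subgroup.mem_center_iff.mp (hcen ha) x
  let f : S ⧸ R →* S ⧸ T := QuotientGroup.map R T (MonoidHom.id S) hRT
  have hker : ∀ x, f x = 1 → x ∈ Z := fun x hx => by
    obtain ⟨s, rfl⟩ := QuotientGroup.mk'_surjective R x
    exact ⟨s, (QuotientGroup.eq_one_iff s).mp hx, rfl⟩
  have hfs : Function.Surjective f := fun x => by
    obtain ⟨s, rfl⟩ := QuotientGroup.mk'_surjective T x
    exact ⟨(s : S ⧸ R), rfl⟩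
  obtain ⟨w, hw⟩ := C.exists_equivariant (QuotientGroup.mk' T) hmod
  choose ℓ hℓ using hfs
  set ρ := QuotientGroup.mk' R with hρ
  set τ := QuotientGroup.mk' T with hτ
  have hfρ : ∀ s : S, f (ρ s) = τ s := fun s => rfl
  have hζ : ∀ (g : S) (y : C.Y), (ℓ (w (g • y)))⁻¹ * ρ g * ℓ (w y) * (ρ (C.η g y))⁻¹ ∈ Z := by
    intro g y
    apply hker
    simp only [map_mul, map_inv, hℓ, hfρ, hw]
    group
  let ζ : S → C.Y → Z := fun g y => ⟨_, hζ g y⟩
  have hζe : ∀ g y, ρ g * ℓ (w y) = ℓ (w (g • y)) * (ζ g y : S ⧸ R) * ρ (C.η g y) := by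
    intro g y
    show _ = _ * (_ * _ * _ * _) * _
    group
  have hζmul : ∀ g g' y, ζ (g * g') y = ζ g (g' • y) * ζ g' y := by
    intro g g' y
    refine Subtype.ext ?_
    show (ℓ (w ((g * g') • y)))⁻¹ * ρ (g * g') * ℓ (w y) * (ρ (C.η (g * g') y))⁻¹ =
      (ζ g (g' • y) : S ⧸ R) * (ζ g' y : S ⧸ R)
    rw [C.η_mul, mul_smul, map_mul, map_mul, mul_inv_rev]
    calc _ = (ℓ (w (g • g' • y)))⁻¹ * ρ g * (ρ g' * ℓ (w y)) *
          ((ρ (C.η g' y))⁻¹ * (ρ (C.η g (g' • y)))⁻¹) := by simp only [mul_assoc]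
      _ = (ℓ (w (g • g' • y)))⁻¹ * ρ g * ℓ (w (g' • y)) *
          ((ζ g' y : S ⧸ R) * (ρ (C.η g (g' • y)))⁻¹) := by rw [hζe]; group
      _ = _ := by rw [← hZc _ (ζ g' y).2]; exact (mul_assoc _ _ _).symm
  let W₀ : S →* Z := MonoidHom.mk' (fun g => ∏ y, ζ g y) fun g g' => by
    simp only [hζmul, Finset.prod_mul_distrib]
    rw [C.prod_smul g' fun y => ζ g y]
  refine ⟨Z.subtype.comp W₀, fun g => (W₀ g).2, fun P φ hφ u huT hφT => ?_⟩
  set u' : S := ⟨u, F.source_le hφ u.2⟩ with hu'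
  set v' : S := ⟨φ u, F.apply_mem hφ u⟩ with hv'
  obtain ⟨e, k, he⟩ := C.twist P φ hφ
  have hu1 : τ u' = 1 := (QuotientGroup.eq_one_iff _).mpr huT
  have hv1 : τ v' = 1 := (QuotientGroup.eq_one_iff _).mpr hφT
  have hvZ : ρ v' ∈ Z := ⟨_, hφT, rfl⟩
  have huZ : ρ u' ∈ Z := ⟨_, huT, rfl⟩
  have hee : ∀ y, e (u' • y) = v' • e y := fun y => (he u y).1
  have hek : ∀ y, C.η v' (e y) = (k (u' • y))⁻¹ * C.η u' y * k y := fun y => (he u y).2
  let V : C.Y → S ⧸ T := fun y => w (e y) * (τ (k y))⁻¹ * (w y)⁻¹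
  have hV : ∀ y, V (u' • y) = V y := by
    intro y
    show w (e (u' • y)) * (τ (k (u' • y)))⁻¹ * (w (u' • y))⁻¹ = w (e y) * (τ (k y))⁻¹ * (w y)⁻¹
    rw [hee, hw, hw, hu1, hv1, hek]
    simp only [map_mul, map_inv]
    group
  have hε : ∀ y, (ℓ (V y) * ℓ (w y) * ρ (k y))⁻¹ * ℓ (w (e y)) ∈ Z := by
    intro y
    apply hker
    simp only [map_mul, map_inv, hℓ, hfρ, V]
    group
  let ε : C.Y → Z := fun y => ⟨_, hε y⟩
  have hεe : ∀ y, ℓ (w (e y)) = ℓ (V y) * ℓ (w y) * ρ (k y) * (ε y : S ⧸ R) := fun y =>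
    (mul_inv_cancel_left _ _).symm
  have hkey : ∀ y, ζ v' (e y) * ε (u' • y) = ⟨ρ v' * (ρ u')⁻¹, Z.mul_mem hvZ (Z.inv_mem huZ)⟩ * (ζ u' y * ε y) := by
    intro y
    refine Subtype.ext ?_
    show (ℓ (w (v' • e y)))⁻¹ * ρ v' * ℓ (w (e y)) * (ρ (C.η v' (e y)))⁻¹ * (ε (u' • y) : S ⧸ R) =
      ρ v' * (ρ u')⁻¹ * ((ζ u' y : S ⧸ R) * (ε y : S ⧸ R))
    have h1 := hεe (u' • y)
    rw [hee, hV] at h1
    rw [h1, hεe, hek, map_mul, map_mul, map_inv]
    have h2 : ℓ (w (u' • y)) = ρ u' * ℓ (w y) * (ρ (C.η u' y))⁻¹ * (ζ u' y : S ⧸ R)⁻¹ := by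
      rw [hζe u' y, mul_inv_cancel_right, mul_inv_cancel_right]
    rw [h2]
    exact shuffle (hcen huZ) (hcen hvZ) (hcen (ζ u' y).2) (hcen (ε y).2) (hcen (ε (u' • y)).2)
  have hprod : W₀ v' = ⟨ρ v' * (ρ u')⁻¹, Z.mul_mem hvZ (Z.inv_mem huZ)⟩ ^ Fintype.card C.Y * W₀ u' := by
    show ∏ y, ζ v' y = _ * ∏ y, ζ u' y
    have h1 := Finset.prod_congr rfl fun y (_ : y ∈ Finset.univ) => hkey y
    simp only [Finset.prod_mul_distrib, Finset.prod_const, Finset.card_univ] at h1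
    rw [C.prod_smul u' ε, Fintype.prod_equiv e (fun y => ζ v' (e y)) (fun y => ζ v' y) fun _ => rfl,
      ← mul_assoc] at h1
    exact mul_right_cancel h1
  show (W₀ v' : S ⧸ R) = (W₀ u' : S ⧸ R) * ρ (v' * u'⁻¹) ^ Fintype.card C.Y
  rw [hprod, Subgroup.coe_mul, Subgroup.coe_pow, map_mul, map_inv]
  exact (hZc _ (Z.pow_mem (Z.mul_mem hvZ (Z.inv_mem huZ)) _) _).symm

end Cocycle

end Cfsg.FusionSystem
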