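import Cfsg.Agent.Lib.Fusion.Transfer.Tate
import Cfsg.Agent.Lib.Fusion.Quotient

/-!
A strongly closed Frattini subgroup and inner automorphisms of `S` force the inner system.
-/

set_option autoImplicit false
set_option linter.unusedSectionVars false

universe u

namespace Cfsg.FusionSystem

open scoped commutatorElement

variable {Ω : Type u} [Group Ω] {S : Subgroup Ω} {F : FusionSystem S} {p : ℕ} [Finite S] [Fact p.Prime]

theorem IsSaturated.focalSubgroup_le_frattini (hF : F.IsSaturated p) (hS : IsPGroup p S) {T : Subgroup Ω}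
    (hT : F.StronglyClosed T) (hTS : ∀ a ∈ S, ∀ b ∈ S, a * b * a⁻¹ * b⁻¹ ∈ T)
    (hsin : ∀ φ ∈ F.Hom S, ∃ g ∈ S, ∀ x : S, φ x = g * (x : Ω) * g⁻¹) : F.focalSubgroup ≤ T := by
  have hinn : ∀ g ∈ S, ∀ x ∈ S, x⁻¹ * (g * x * g⁻¹) ∈ T := fun g hg x hx => by
    simpa [mul_assoc] using hTS x⁻¹ (S.inv_mem hx) g hg
  let E : FusionSystem S :=
    { Hom := fun P => {φ | φ ∈ F.Hom P ∧ ∀ x : P, (x : Ω)⁻¹ * φ x ∈ T}
      le_of_mem := fun h => F.le_of_mem h.1
      injective_of_mem := fun h => F.injective_of_mem h.1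
      conj_mem := fun {P g} hP hg => ⟨F.conj_mem hP hg, fun x => hinn g hg x (hP x.2)⟩
      comp_mem := fun {P Q φ ψ} hφ hψ h => ⟨F.comp_mem hφ.1 hψ.1 h, fun x => by
        have := mul_mem (hφ.2 x) (hψ.2 ⟨φ x, h x⟩)
        rwa [mul_assoc, mul_inv_cancel_left] at this⟩
      inv_mem := fun {P φ} hφ => by
        obtain ⟨ψ, hψ, hl⟩ := F.inv_mem hφ.1
        refine ⟨ψ, ⟨hψ, ?_⟩, hl⟩
        rintro ⟨_, x, rfl⟩
        have := InvMemClass.inv_mem (hφ.2 x)
        rw [hl]
        simpa [mul_inv_rev] using this }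
  have key : F ≤ E := by
    refine hF.le_of_autGroup_le' hS E fun R hR hbig => ?_
    intro α hα
    rcases hR with rfl | hR
    · obtain ⟨φ, hφ, -, he⟩ := F.exists_map_of_mem_autGroup le_rfl hα
      refine E.mem_autGroup_of_map ⟨hφ, fun x => ?_⟩ fun x => (he x).symm
      obtain ⟨g, hg, hge⟩ := hsin φ hφ
      rw [hge]
      exact hinn g hg x x.2
    have hRS : R ≤ S := hR.1.1
    obtain ⟨φ, hφ, -, he⟩ := F.exists_map_of_mem_autGroup hRS hα
    refine E.mem_autGroup_of_map ⟨hφ, ?_⟩ fun x => (he x).symm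
    have hRTle : R ⊔ T ≤ S := sup_le hRS hT.1
    haveI := finite_of_le hRTle
    by_cases hTR : T ≤ R
    · -- the automiser acts trivially modulo `T`
      haveI := finite_mulAut_of_le hRS
      let K : Subgroup (F.autGroup R) :=
        { carrier := {a | ∀ x : R, (x : Ω)⁻¹ * ((a : MulAut R) x : R) ∈ T}
          one_mem' := fun x => by simp
          mul_mem' := by
            intro a b ha hb x
            have h1 := T.mul_mem (hb x) (ha ((b : MulAut R) x))
            simpa [MulAut.mul_apply, mul_assoc] using h1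
          inv_mem' := by
            intro a ha x
            have h1 := T.inv_mem (ha ((a : MulAut R)⁻¹ x))
            simpa [mul_assoc] using h1 }
      haveI hKn : K.Normal := by
        refine ⟨fun a ha g => ?_⟩
        intro x
        have h1 := ha ((g : MulAut R)⁻¹ x)
        obtain ⟨χ, hχ, -, hχe⟩ := F.exists_map_of_mem_autGroup hRS g.2
        have h2 := hT.apply_mem_of_mem hχ (x := ((g : MulAut R)⁻¹ x)⁻¹ * (a : MulAut R) ((g : MulAut R)⁻¹ x))
          (by simpa using h1)
        rw [hχe] at h2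
        simpa [MulAut.mul_apply] using h2
      obtain ⟨-, U, hU⟩ := hF.isFullyAutomized_of_isFullyNormalized hS hR.2.1
      have hrec := hF.isReceptive_of_isFullyNormalized hS hR.2.1
      have hUK : (U : Subgroup (F.autGroup R)) ≤ K := by
        intro a ha x
        obtain ⟨g, hg, -, hge⟩ := mem_autInducedBy_iff.mp (hU.le ha)
        have hge' : (((a : MulAut R) x : R) : Ω) = g * x * g⁻¹ := by first | exact hge x | exact (hge x).symm
        rw [hge']
        exact hinn g hg x (hRS x.2)
      have hSR : S ≤ Subgroup.normalizer (R : Set Ω) := by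
        intro s hs
        refine Subgroup.mem_normalizer_iff.mpr fun x => ⟨fun hx => ?_, fun hx => ?_⟩
        · have h4 := R.mul_mem (hTR (hTS s hs x (hRS hx))) hx
          simpa [mul_assoc] using h4
        · have h4 := R.mul_mem (hTR (hTS s⁻¹ (S.inv_mem hs) _ (hRS hx))) hx
          simpa [mul_assoc] using h4
      have hN : Subgroup.normalizer ((U : Subgroup (F.autGroup R)) : Set (F.autGroup R)) ≤ K := by
        intro γ hγ x
        obtain ⟨ψ, hψ, hψe⟩ := exists_extension_of_normalizes hrec γ.2 (le_refl (normalizerIn S R)) (by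
          intro g hg hgN
          let c : F.autGroup R := ⟨R.normalizerMonoidHom ⟨g, hgN⟩,
            autInducedBy_le_autGroup hRS (mem_autInducedBy_iff.mpr ⟨g, hg.1, hgN, fun _ => rfl⟩)⟩
          have hc : c ∈ (U : Subgroup (F.autGroup R)) := hU.ge (mem_autInducedBy_iff.mpr ⟨g, hg.1, hgN, fun _ => rfl⟩)
          exact hU.le ((Subgroup.mem_normalizer_iff.mp hγ c).mp hc))
        have hle : S ≤ R ⊔ normalizerIn S R := le_trans (le_inf le_rfl hSR) le_sup_right
        obtain ⟨g, hg, hge⟩ := hsin _ (F.restrict_mem hψ hle)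
        rw [← hψe x, show ψ ⟨x, _⟩ = g * (x : Ω) * g⁻¹ from hge ⟨x, hRS x.2⟩]
        exact hinn g hg x (hRS x.2)
      have hall : (⊤ : Subgroup (F.autGroup R)) ≤ K := by
        rw [← (U.subtype hUK).normalizer_sup_eq_top]
        refine sup_le ?_ le_rfl
        rw [Sylow.coe_subtype, Subgroup.map_subgroupOf_eq_of_le hUK]
        exact hN
      intro x
      rw [he]
      exact hall (Subgroup.mem_top (⟨α, hα⟩ : F.autGroup R)) x
    · obtain ⟨ψ, hψ, hψe⟩ := hF.exists_congr_mod hS hT hφ
      have hlt : R < R ⊔ T := lt_of_le_of_ne le_sup_left fun e => hTR (le_sup_right.trans e.ge)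
      have hψE := hbig _ (card_lt_of_lt hlt) hψ
      intro x
      have := T.mul_mem (hψE.2 ⟨x, Subgroup.mem_sup_left x.2⟩) (hψe x)
      simpa [mul_assoc] using this
  rw [FusionSystem.focalSubgroup, Subgroup.closure_le]
  rintro _ ⟨P, φ, x, hφ, rfl⟩
  exact (key P hφ).2 x

end Cfsg.FusionSystem
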