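import Cfsg.Agent.Lib.Fusion.Transfer.Exists
import Cfsg.Agent.Lib.Fusion.Hyperfocal
import Mathlib.GroupTheory.Index

/-!
Thompson transfer for saturated fusion systems.
-/

set_option autoImplicit false

universe u

namespace Cfsg.FusionSystem

variable {Ω : Type u} [Group Ω] {S : Subgroup Ω} {F : FusionSystem S} [Finite S]

theorem normalizerIn_zpowers_le_centralizerIn {j : Ω} (hj : orderOf j = 2) :
    normalizerIn S (Subgroup.zpowers j) ≤ centralizerIn S (Subgroup.zpowers j) := by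
  rintro g ⟨hgS, hgN⟩
  refine ⟨hgS, ?_⟩
  have h1 : g * j * g⁻¹ ∈ Subgroup.zpowers j := (Subgroup.mem_normalizer_iff.mp hgN j).mp (Subgroup.mem_zpowers j)
  obtain ⟨k, hk⟩ := Subgroup.mem_zpowers_iff.mp h1
  have hj2 : j * j = 1 := by rw [← pow_two, ← hj, pow_orderOf_eq_one]
  have h2 : j ^ k = 1 ∨ j ^ k = j := by
    rcases Int.even_or_odd k with ⟨l, rfl⟩ | ⟨l, rfl⟩
    · left
      rw [← two_mul, zpow_mul, zpow_two, hj2, one_zpow]
    · right
      rw [_root_.zpow_add, zpow_mul, zpow_two, hj2, one_zpow, one_mul, zpow_one]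
  have h3 : g * j = j * g := by
    rcases h2 with h | h
    · rw [h] at hk
      have h4 : j = 1 := conj_eq_one_iff.mp hk.symm
      rw [h4, mul_one, one_mul]
    · rw [h] at hk
      exact (mul_inv_eq_iff_eq_mul.mp hk.symm)
  refine Subgroup.mem_centralizer_iff.mpr ?_
  intro x hx
  obtain ⟨l, rfl⟩ := Subgroup.mem_zpowers_iff.mp hx
  exact ((Commute.zpow_right (show Commute g j from h3) l).symm).eq

theorem card_centralizerIn_zpowers {j : Ω} (hj : orderOf j = 2) :
    Nat.card (centralizerIn S (Subgroup.zpowers j)) = Nat.card (normalizerIn S (Subgroup.zpowers j)) := by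
  have : centralizerIn S (Subgroup.zpowers j) = normalizerIn S (Subgroup.zpowers j) :=
    le_antisymm (inf_le_inf_left _ (Subgroup.centralizer_le_normalizer _))
      (normalizerIn_zpowers_le_centralizerIn hj)
  rw [this]

/-- Thompson transfer. -/
theorem IsSaturated.not_mem_hyperfocal_of_thompson (hF : F.IsSaturated 2) (hS : IsPGroup 2 S) {T : Subgroup Ω}
    (hT : T.relIndex S = 2) {i : Ω} (hi : i ∈ S) (hi2 : orderOf i = 2)
    (h : ∀ j : Ω, F.IsConjElt i j → F.IsFullyNormalized (Subgroup.zpowers j) → j ∉ T) :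
    i ∉ F.hyperfocalSubgroup 2 := by
  classical
  obtain ⟨C, hC⟩ := hF.exists_cocycle hS
  have hiS : Subgroup.zpowers i ≤ S := Subgroup.zpowers_le.mpr hi
  obtain ⟨R, ⟨φ, hφ, hφr⟩, hR⟩ := F.exists_isFullyNormalized hiS
  set j : S := ⟨φ ⟨i, Subgroup.mem_zpowers i⟩, F.apply_mem hφ _⟩ with hjdef
  have hRj : R = Subgroup.zpowers (j : Ω) := by
    rw [← hφr]
    ext x
    constructor
    · rintro ⟨⟨y, hy⟩, rfl⟩
      obtain ⟨k, rfl⟩ := Subgroup.mem_zpowers_iff.mp hy
      refine Subgroup.mem_zpowers_iff.mpr ⟨k, ?_⟩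
      show φ ⟨i, Subgroup.mem_zpowers i⟩ ^ k = _
      rw [← map_zpow]
      rfl
    · intro hx
      obtain ⟨k, rfl⟩ := Subgroup.mem_zpowers_iff.mp hx
      exact ⟨(⟨i, Subgroup.mem_zpowers i⟩ : Subgroup.zpowers i) ^ k, map_zpow φ _ _⟩
  have hjord : orderOf (j : Ω) = 2 := by
    show orderOf (φ ⟨i, Subgroup.mem_zpowers i⟩) = 2
    rw [orderOf_injective φ (F.injective_of_mem hφ), ← hi2, ← Subgroup.orderOf_coe]
  have hjj : j * j = 1 := Subtype.ext (by
    show (j : Ω) * j = 1
    rw [← pow_two, ← hjord, pow_orderOf_eq_one])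
  -- the sign character
  have hidx : (T.subgroupOf S).index = 2 := hT
  let π : S →* ℤˣ := MonoidHom.mk' (fun s => if (s : Ω) ∈ T then 1 else -1) fun a b => by
    have h1 : ((a : Ω) * b ∈ T) ↔ ((a : Ω) ∈ T ↔ (b : Ω) ∈ T) := Subgroup.mul_mem_iff_of_index_two hidx (a := a) (b := b)
    by_cases ha : (a : Ω) ∈ T <;> by_cases hb : (b : Ω) ∈ T <;> simp [h1, ha, hb]
  have hπ : ∀ s : S, π s = if (s : Ω) ∈ T then 1 else -1 := fun s => rfl
  set τ := C.transfer π
  -- moved points cancel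
  have hmoved : ∀ f : C.Y → ℤˣ, (∀ y, f y * f (j • y) = 1) →
      ∏ y ∈ Finset.univ.filter (fun y => j • y ≠ y), f y = 1 := by
    intro f hf
    refine Finset.prod_involution (fun y _ => j • y) (fun y _ => hf y) (fun y hy _ => (Finset.mem_filter.mp hy).2)
      (fun y hy => ?_) fun y _ => by rw [← mul_smul, hjj, one_smul]
    refine Finset.mem_filter.mpr ⟨Finset.mem_univ _, fun e => (Finset.mem_filter.mp hy).2 ?_⟩
    have e2 := congrArg (j⁻¹ • ·) e
    simpa using e2
  -- the number of fixed points is odd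
  let Fix := Finset.univ.filter (fun y : C.Y => j • y = y)
  have hodd : ((-1 : ℤˣ)) ^ Fix.card = -1 := by
    have h1 := hmoved (fun _ => -1) (fun _ => by simp)
    have h2 := Finset.prod_filter_mul_prod_filter_not (Finset.univ : Finset C.Y) (fun y => j • y = y) (fun _ => (-1 : ℤˣ))
    rw [h1, mul_one, Finset.prod_const, Finset.prod_const, Finset.card_univ] at h2
    show (-1 : ℤˣ) ^ (Finset.univ.filter (fun y : C.Y => j • y = y)).card = -1
    rw [h2]
    exact Odd.neg_one_pow (Nat.coprime_two_right.mp hC)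
  -- fixed points with value in `T` come in even numbers
  let A := {y : C.Y // j • y = y ∧ ((C.η j y : S) : Ω) ∈ T}
  let K : Subgroup S := Subgroup.centralizer ({j} : Set S)
  have hKj : ∀ g : K, (g : S) * j = j * g := fun g => Subgroup.mem_centralizer_singleton_iff.mp g.2
  have hKη : ∀ (g : K) (y : C.Y), j • y = y → C.η (g : S) y * C.η j y = C.η j ((g : S) • y) * C.η (g : S) y := by
    intro g y hy
    have h1 := C.η_mul (g : S) j y
    rw [hy] at h1
    rw [← h1, hKj g, C.η_mul]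
  have hTn : ∀ a b : S, (a : Ω) ∈ T → ((b * a * b⁻¹ : S) : Ω) ∈ T := fun a b ha => by
    haveI := Subgroup.normal_of_index_eq_two hidx
    exact (inferInstance : (T.subgroupOf S).Normal).conj_mem a ha b
  letI : MulAction K A :=
    { smul := fun g y => ⟨(g : S) • y.1, by rw [← mul_smul, ← hKj g, mul_smul, y.2.1], by
        have h1 := hKη g y.1 y.2.1
        have h2 := hTn (C.η j y.1) (C.η (g : S) y.1) y.2.2
        rwa [h1, mul_inv_cancel_right] at h2⟩
      one_smul := fun y => Subtype.ext (one_smul S y.1)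
      mul_smul := fun g g' y => Subtype.ext (mul_smul (g : S) g' y.1) }
  have heven : Nat.card A ≡ 0 [MOD 2] := by
    refine (IsPGroup.card_modEq_card_fixedPoints (p := 2) (G := K) (hS.to_subgroup K) (α := A)).trans ?_
    rw [show Nat.card (MulAction.fixedPoints K A) = 0 from Nat.card_eq_zero.mpr (Or.inl ⟨?_⟩)]
    rintro ⟨⟨y, hy, hyT⟩, hfix⟩
    have hfix' : ∀ g : K, (g : S) • y = y := fun g => congrArg Subtype.val (hfix g)
    obtain ⟨P, ψ, hψ, hd⟩ := C.diag y
    obtain ⟨hu, hue⟩ := hd j hy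
    set u : S := C.η j y with hudef
    -- `u` is a conjugate of `i`
    obtain ⟨b, hb, hbr, hbl, -⟩ := F.exists_inv hψ rfl
    have hjr : φ ⟨i, Subgroup.mem_zpowers i⟩ ∈ ψ.range := ⟨⟨_, hu⟩, hue⟩
    have hmem : ∀ x : Subgroup.zpowers i, φ x ∈ ψ.range := fun x => by
      obtain ⟨k, hk⟩ := Subgroup.mem_zpowers_iff.mp x.2
      rw [show x = (⟨i, Subgroup.mem_zpowers i⟩ : Subgroup.zpowers i) ^ k from Subtype.ext hk.symm, map_zpow]
      exact ψ.range.zpow_mem hjr k
    obtain ⟨χ, hχ, hχe⟩ := F.exists_comp hφ hb hmem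
    have hχi : χ ⟨i, Subgroup.mem_zpowers i⟩ = (u : Ω) := by
      rw [hχe]
      exact (congrArg b (Subtype.ext hue.symm)).trans (hbl ⟨_, hu⟩ ⟨_, rfl⟩)
    have huord : orderOf (u : Ω) = 2 := by
      rw [← hχi, orderOf_injective χ (F.injective_of_mem hχ), ← hi2, ← Subgroup.orderOf_coe]
    -- the centralizer of `j` embeds in that of `u`
    have hle : Nat.card K ≤ Nat.card (centralizerIn S (Subgroup.zpowers (u : Ω))) := by
      haveI : Finite ↥(centralizerIn S (Subgroup.zpowers (u : Ω))) := finite_of_le inf_le_left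
      refine Nat.card_le_card_of_injective (fun g : K => ⟨((C.η (g : S) y : S) : Ω), ?_⟩) fun g g' e => ?_
      · refine ⟨SetLike.coe_mem _, Subgroup.mem_centralizer_iff.mpr fun x hx => ?_⟩
        obtain ⟨l, rfl⟩ := Subgroup.mem_zpowers_iff.mp hx
        have h1 := hKη g y hy
        rw [hfix' g] at h1
        exact ((Commute.zpow_right (show Commute ((C.η (g : S) y : S) : Ω) (u : Ω) from
          congrArg Subtype.val h1) l).symm).eq
      · obtain ⟨hg, hge⟩ := hd g (hfix' g)
        obtain ⟨hg', hge'⟩ := hd g' (hfix' g')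
        have h2 : (⟨((C.η (g : S) y : S) : Ω), hg⟩ : P) = ⟨((C.η (g' : S) y : S) : Ω), hg'⟩ :=
          Subtype.ext (congrArg Subtype.val e :)
        rw [h2, hge'] at hge
        exact Subtype.ext (Subtype.ext hge.symm)
    have hK : Nat.card K = Nat.card (centralizerIn S (Subgroup.zpowers (j : Ω))) := by
      refine Nat.card_congr ⟨fun g => ⟨((g : S) : Ω), (g : S).2, Subgroup.mem_centralizer_iff.mpr fun x hx => ?_⟩,
        fun g => ⟨⟨g, g.2.1⟩, Subgroup.mem_centralizer_singleton_iff.mpr (Subtype.ext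
          (Subgroup.mem_centralizer_iff.mp g.2.2 _ (Subgroup.mem_zpowers (j : Ω))).symm)⟩,
        fun g => rfl, fun g => rfl⟩
      obtain ⟨l, rfl⟩ := Subgroup.mem_zpowers_iff.mp hx
      exact ((Commute.zpow_right (show Commute ((g : S) : Ω) (j : Ω) from congrArg Subtype.val (hKj g)) l).symm).eq
    rw [hK, card_centralizerIn_zpowers hjord, card_centralizerIn_zpowers huord] at hle
    refine h u ⟨χ, hχ, hχi⟩ ⟨Subgroup.zpowers_le.mpr u.2, fun Q hQ => ?_⟩ hyT
    have hiQ : F.IsConj R Q := by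
      have hiu : F.IsConj (Subgroup.zpowers i) (Subgroup.zpowers (u : Ω)) := by
        refine ⟨χ, hχ, le_antisymm ?_ (Subgroup.zpowers_le.mpr ⟨_, hχi⟩)⟩
        rintro _ ⟨x, rfl⟩
        obtain ⟨k, hk⟩ := Subgroup.mem_zpowers_iff.mp x.2
        rw [show x = (⟨i, Subgroup.mem_zpowers i⟩ : Subgroup.zpowers i) ^ k from Subtype.ext hk.symm, map_zpow, hχi]
        exact Subgroup.zpow_mem _ (Subgroup.mem_zpowers _) k
      exact ((IsConj.symm ⟨φ, hφ, hφr⟩).trans hiu).trans hQ
    exact (hR.2 Q hiQ).trans (hRj ▸ hle)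
  -- the transfer is nontrivial on `j`
  have hτj : τ j = -1 := by
    show ∏ y, π (C.η j y) = -1
    rw [← Finset.prod_filter_mul_prod_filter_not (Finset.univ : Finset C.Y) (fun y => j • y = y)]
    rw [hmoved (fun y => π (C.η j y)) fun y => by
      rw [← map_mul, mul_comm' π, ← C.η_mul, hjj, C.η_one, map_one], mul_one]
    rw [← Finset.prod_filter_mul_prod_filter_not Fix (fun y => ((C.η j y : S) : Ω) ∈ T)]
    rw [Finset.prod_congr rfl (g := fun _ => (1 : ℤˣ)) (fun y hy => by
      rw [hπ, if_pos (Finset.mem_filter.mp hy).2]), Finset.prod_const_one, one_mul]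
    rw [Finset.prod_congr rfl (g := fun _ => (-1 : ℤˣ)) (fun y hy => by
      rw [hπ, if_neg (Finset.mem_filter.mp hy).2]), Finset.prod_const]
    have hsum : (Fix.filter (fun y => ((C.η j y : S) : Ω) ∈ T)).card +
        (Fix.filter (fun y => ¬ ((C.η j y : S) : Ω) ∈ T)).card = Fix.card :=
      Finset.card_filter_add_card_filter_not _
    have hA : Nat.card A = (Fix.filter (fun y => ((C.η j y : S) : Ω) ∈ T)).card := by
      rw [Nat.card_eq_fintype_card, Fintype.card_subtype, Finset.filter_filter]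
    have heven' : Even (Fix.filter (fun y => ((C.η j y : S) : Ω) ∈ T)).card := by
      rw [← hA, Nat.even_iff]
      exact heven
    rw [← hsum, pow_add, Even.neg_one_pow heven', one_mul] at hodd
    exact hodd
  intro hhyp
  have hker : F.hyperfocalSubgroup 2 ≤ τ.ker.map S.subtype := by
    rw [hyperfocalSubgroup_le_iff]
    intro P hP α hα _ x
    obtain ⟨χ, hχ, -, he⟩ := F.exists_map_of_mem_autGroup hP hα
    refine ⟨(⟨x, hP x.2⟩ : S)⁻¹ * ⟨(α x : P), hP (α x).2⟩, ?_, rfl⟩
    show τ _ = 1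
    rw [map_mul, map_inv, show (⟨((α x : P) : Ω), hP (α x).2⟩ : S) = ⟨χ x, F.apply_mem hχ x⟩ from
      Subtype.ext (he x).symm, C.transfer_map π hχ x, inv_mul_cancel]
  obtain ⟨s, hs, hse⟩ := hker hhyp
  have h1 : τ j = τ ⟨i, hi⟩ := C.transfer_map π hφ ⟨i, Subgroup.mem_zpowers i⟩
  rw [hτj, show (⟨i, hi⟩ : S) = s from Subtype.ext hse.symm, show τ s = 1 from hs] at h1
  exact absurd h1 (by decide)
where
  mul_comm' {G : Type u} [Group G] (π : G →* ℤˣ) {a b : G} : π (a * b) = π (b * a) := by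
    rw [map_mul, map_mul, mul_comm]

end Cfsg.FusionSystem
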